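import Cfsg.Agent.Lib.SylowCounting.Order5040
import Cfsg.Agent.Lib.SylowCounting.DegreeKill
import Cfsg.Agent.Lib.SylowCounting.Order168
import Mathlib.Tactic

/-!
# Simple groups of order 2520 without subgroups of index at most 7: first local facts
-/

namespace Cfsg.Agent.Lib.Order2520

open MulAction Cfsg.Agent.Lib.SylowCounting Cfsg.Agent.Lib.SylowCounting.Order5040

set_option linter.style.haveILetI false
set_option linter.unusedSectionVars false

abbrev C {G : Type*} [Group G] (x : G) : Subgroup G := Subgroup.centralizer ({x} : Set G)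

theorem mem_C {G : Type*} [Group G] {x g : G} : g ∈ C x ↔ Commute g x :=
  Subgroup.mem_centralizer_singleton_iff

/-- Order 2520, simple, and every proper subgroup has index above 7. -/
structure Hyp (G : Type*) [Group G] : Prop where
  card : Nat.card G = 2520
  small : ∀ H : Subgroup G, H ≠ ⊤ → 7 < H.index

variable {G : Type*} [Group G] [Finite G] [IsSimpleGroup G]

theorem Hyp.not_comm (hy : Hyp G) : ¬ IsMulCommutative G :=
  not_comm_of_not_prime (by rw [hy.card]; norm_num)

theorem Hyp.card_le (hy : Hyp G) (H : Subgroup G) (hH : H ≠ ⊤) :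
    Nat.card H ≤ 315 ∧ Nat.card H ∣ 2520 := by
  have h1 := H.index_mul_card
  rw [hy.card] at h1
  refine ⟨?_, h1 ▸ Dvd.intro_left _ rfl⟩
  have := hy.small H hH
  have : 8 * Nat.card H ≤ 2520 := h1 ▸ Nat.mul_le_mul_right _ this
  omega

theorem C_ne_top (hG : ¬ IsMulCommutative G) {x : G} (hx : x ≠ 1) : C x ≠ ⊤ := by
  intro h
  have hc : x ∈ Subgroup.center G := Subgroup.mem_center_iff.2 fun g =>
    (mem_C.1 (h ▸ Subgroup.mem_top g : g ∈ C x)).eq
  rcases IsSimpleGroup.eq_bot_or_eq_top_of_normal (Subgroup.center G) inferInstance with hb | ht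
  · exact hx (Subgroup.mem_bot.1 (hb ▸ hc))
  · exact hG ⟨⟨fun a b => (Subgroup.mem_center_iff.1 (ht ▸ Subgroup.mem_top b) a)⟩⟩

theorem Hyp.card_C (hy : Hyp G) {x : G} (hx : x ≠ 1) : Nat.card (C x) ≤ 315 ∧ Nat.card (C x) ∣ 2520 :=
  hy.card_le _ (C_ne_top hy.not_comm hx)

/-- Elements commuting with `t` and fixing only one point leave the fixed set of `t` at `1 mod p`. -/
theorem fixed_mod {p : ℕ} [Fact p.Prime] {X : Type*} [MulAction G X] [Finite X] (t x : G)
    (hx : orderOf x = p) (hc : Commute t x) (a : X) (hxa : x • a = a)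
    (huniq : ∀ b : X, x • b = b → b = a) :
    t • a = a ∧ Nat.card (fixedBy X t) % p = 1 := by
  have hta : t • a = a := huniq _ (by rw [← mul_smul, ← hc.eq, mul_smul, hxa])
  refine ⟨hta, ?_⟩
  letI : MulAction (Subgroup.zpowers x) (fixedBy X t) :=
    { smul := fun g b => ⟨(g : G) • b.1, by
        obtain ⟨i, hi⟩ := Subgroup.mem_zpowers_iff.1 g.2
        show t • ((g : G) • b.1) = (g : G) • b.1
        rw [← hi, ← mul_smul, (hc.zpow_right i).eq, mul_smul, show t • b.1 = b.1 from b.2]⟩
      one_smul := fun b => Subtype.ext (one_smul G b.1)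
      mul_smul := fun g h b => Subtype.ext (mul_smul (g : G) (h : G) b.1) }
  have hp : IsPGroup p (Subgroup.zpowers x) :=
    IsPGroup.of_card (n := 1) (by rw [Nat.card_zpowers, hx, pow_one])
  have hmod := hp.card_modEq_card_fixedPoints (fixedBy X t)
  have hfp : Nat.card (fixedPoints (Subgroup.zpowers x) (fixedBy X t)) = 1 := by
    rw [Nat.card_eq_one_iff_unique]
    have hmem : ∀ b : fixedBy X t, b ∈ fixedPoints (Subgroup.zpowers x) (fixedBy X t) →
        b.1 = a := fun b hb => huniq _ (congrArg Subtype.val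
          (MulAction.mem_fixedPoints.1 hb ⟨x, Subgroup.mem_zpowers x⟩))
    refine ⟨⟨fun b c => Subtype.ext (Subtype.ext ((hmem _ b.2).trans (hmem _ c.2).symm))⟩,
      ⟨⟨⟨a, hta⟩, ?_⟩⟩⟩
    intro g
    apply Subtype.ext
    show (g : G) • a = a
    have : Subgroup.zpowers x ≤ MulAction.stabilizer G a := Subgroup.zpowers_le.2 hxa
    exact this g.2
  rw [hfp] at hmod
  rw [hmod, Nat.mod_eq_of_lt (Fact.out (p := p.Prime)).one_lt]

omit [IsSimpleGroup G] in
theorem exists_orderOf {p : ℕ} (hp : p.Prime) (H : Subgroup G) (h : p ∣ Nat.card H) :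
    ∃ g ∈ H, orderOf g = p := by
  haveI := Fact.mk hp
  obtain ⟨g, hg⟩ := exists_prime_orderOf_dvd_card' (G := H) p h
  exact ⟨g, g.2, by rw [Subgroup.orderOf_coe]; exact hg⟩

/-- There are 120 Sylow 7-subgroups and each is self-centralising. -/
theorem Hyp.seven (hy : Hyp G) {q : G} (hq : orderOf q = 7) : Nat.card (C q) = 7 := by
  haveI : Fact (Nat.Prime 7) := ⟨by norm_num⟩
  have hG := hy.not_comm
  have hc : Nat.card G = 7 ^ 1 * 360 := by rw [hy.card]; norm_num
  have hn : Nat.card (Sylow 7 G) ∈ ({15, 36, 120} : Finset ℕ) :=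
    sylow_count_mem_of_excluded 2520 7 360 1 (by norm_num) (by norm_num) (by norm_num) (by norm_num)
      (by norm_num) hy.card {15, 36, 120} (by decide +kernel)
  let P : Sylow 7 G := Sylow.ofCard (Subgroup.zpowers q) (by
    rw [Nat.card_zpowers, hq, ← (default : Sylow 7 G).card_eq_multiplicity, sylow_card hc (by norm_num),
      pow_one])
  have hP : Nat.card (P : Subgroup G) = 7 := (Nat.card_zpowers q).trans hq
  have hCP : Subgroup.centralizer ((P : Subgroup G) : Set G) = C q := by
    ext g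
    rw [Subgroup.mem_centralizer_iff, mem_C]
    refine ⟨fun h => (h q (Subgroup.mem_zpowers q)).symm, fun h z hz => ?_⟩
    obtain ⟨i, rfl⟩ := Subgroup.mem_zpowers_iff.1 (show z ∈ Subgroup.zpowers q from hz)
    exact (h.zpow_right i).eq.symm
  set N := Subgroup.normalizer ((P : Subgroup G) : Set G) with hN
  have hNi : N.index = Nat.card (Sylow 7 G) := by rw [P.card_eq_index_normalizer]; rfl
  have hNc := N.index_mul_card
  rw [hy.card, hNi] at hNc
  obtain ⟨e, c, hec, he1, hed, h7c, hcC⟩ := normalizer_card_eq hG P hP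
  rw [hCP] at hcC
  rw [← hN] at hec
  obtain ⟨j, hj⟩ := h7c
  have he6 := Nat.le_of_dvd (by norm_num) hed
  simp only [Finset.mem_insert, Finset.mem_singleton] at hn
  rcases hn with h | h | h <;> rw [h] at hNc
  · exfalso
    have heven : 2 ∣ Nat.card (C q) := by
      rw [← hcC]; interval_cases e <;> omega
    obtain ⟨t, htC, ht⟩ := exists_orderOf Nat.prime_two _ heven
    obtain ⟨a, ha, hu⟩ := fixed_exists_unique P hP N le_rfl q hq
    obtain ⟨-, hmod⟩ := fixed_mod t q hq (mem_C.1 htC) a ha hu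
    obtain ⟨k, hk⟩ := fixed_parity hG (X := G ⧸ N) t (ht ▸ pow_orderOf_eq_one t)
    have hX : Nat.card (G ⧸ N) = 15 := by rw [← Subgroup.index_eq_card, hNi, h]
    have := not_fix_all hG N (fun h' => by rw [h', Subgroup.index_top] at hNi; omega) t
      (fun h' => by rw [h', orderOf_one] at ht; omega)
    omega
  · exfalso
    haveI : Fact (Nat.Prime 5) := ⟨by norm_num⟩
    have hX : Nat.card (G ⧸ N) = 36 := by rw [← Subgroup.index_eq_card, hNi, h]
    have hNne : N ≠ ⊤ := fun h' => by rw [h', Subgroup.index_top] at hNi; omega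
    have hc35 : Nat.card (C q) = 35 := by rw [← hcC]; interval_cases e <;> omega
    set a₀ : G ⧸ N := QuotientGroup.mk 1 with ha₀
    have hbase : ∀ g ∈ N, g • a₀ = a₀ := by
      intro g hg
      rw [ha₀, MulAction.Quotient.smul_mk, smul_eq_mul, mul_one, eq_comm, QuotientGroup.eq, inv_one,
        one_mul]
      exact hg
    have hCN : C q ≤ N := hCP ▸ Subgroup.centralizer_le_normalizer _
    have h7mem : ∀ u ∈ N, orderOf u = 7 → u ∈ Subgroup.zpowers q := fun u hu ho =>
      mem_sylow_of_orderOf P hu (k := 1) (by rw [ho, pow_one])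
    obtain ⟨a, ha, hu⟩ := fixed_exists_unique P hP N le_rfl q hq
    have ha0 : a = a₀ := (hu a₀ (hbase q (hCN (mem_C.2 (Commute.refl q))))).symm
    subst ha0
    obtain ⟨t, htN, ht⟩ := exists_orderOf Nat.prime_two N (by omega)
    have ht1 : t ≠ 1 := fun h' => by rw [h', orderOf_one] at ht; omega
    have htq : ¬ Commute t q := fun hc' => by
      have := ht ▸ (C q).orderOf_dvd_natCard (mem_C.2 hc')
      omega
    obtain ⟨k, hk⟩ := fixed_parity hG (X := G ⧸ N) t (ht ▸ pow_orderOf_eq_one t)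
    have hle7 := fixed_le (X := G ⧸ N) (Subgroup.zpowers q) a₀ (fun u hu' => hbase u
        (Subgroup.le_normalizer (show u ∈ (P : Subgroup G) from hu')))
      (fun u hu' hu1 b hb => by
        obtain ⟨c', -, hu''⟩ := fixed_exists_unique P hP N le_rfl u
          (orderOf_of_mem hP (show u ∈ (P : Subgroup G) from hu') hu1)
        rw [hu'' b hb, hu'' a₀ (hbase u (Subgroup.le_normalizer (show u ∈ (P : Subgroup G) from hu')))])
      t (hbase t htN)
      (fun u hu' => (Subgroup.mem_normalizer_iff.1 htN u).1 hu')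
      (fun u hu' he => by
        by_contra hu1
        have hgen : Subgroup.zpowers u = Subgroup.zpowers q := Subgroup.eq_of_le_of_card_ge
          (Subgroup.zpowers_le.2 hu') (by
            rw [Nat.card_zpowers, Nat.card_zpowers, hq,
              orderOf_of_mem hP (show u ∈ (P : Subgroup G) from hu') hu1])
        obtain ⟨i, hi⟩ := Subgroup.mem_zpowers_iff.1 (hgen ▸ Subgroup.mem_zpowers q)
        have hcu : Commute t u := mul_inv_eq_iff_eq_mul.1 he
        exact htq (hi ▸ hcu.zpow_right i))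
    rw [Nat.card_zpowers, hq, hX] at hle7
    have hfree5 : ∀ s ∈ C q, orderOf s = 5 → ∀ b : G ⧸ N, s • b = b → b = a₀ := by
      intro s hs hso b hb
      obtain ⟨-, hmod⟩ := fixed_mod s q hq (mem_C.1 hs) a₀ ha hu
      have hp : IsPGroup 5 (Subgroup.zpowers s) :=
        IsPGroup.of_card (n := 1) (by rw [Nat.card_zpowers, hso, pow_one])
      have h5 := hp.card_modEq_card_fixedPoints (G ⧸ N)
      have he : (fixedPoints (Subgroup.zpowers s) (G ⧸ N)) = fixedBy (G ⧸ N) s := by
        ext c'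
        refine ⟨fun h' => h' ⟨s, Subgroup.mem_zpowers s⟩, fun h' g => ?_⟩
        have : Subgroup.zpowers s ≤ MulAction.stabilizer G c' := Subgroup.zpowers_le.2 h'
        exact this g.2
      rw [he, hX] at h5
      have h5' : 36 % 5 = Nat.card (fixedBy (G ⧸ N) s) % 5 := h5
      have hn := not_fix_all hG N hNne s (fun h' => by rw [h', orderOf_one] at hso; omega)
      rw [hX] at hn
      have hle : Nat.card (fixedBy (G ⧸ N) s) ≤ 36 := hX ▸ Finite.card_subtype_le _
      have hone : Nat.card (fixedBy (G ⧸ N) s) = 1 := by omega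
      rw [Nat.card_eq_one_iff_unique] at hone
      exact congrArg Subtype.val (hone.1.elim ⟨b, hb⟩ ⟨a₀, hbase s (hCN hs)⟩)
    have hprime : ∀ u ∈ C q, u ≠ 1 → (∃ i : ℕ, orderOf (u ^ i) = 7) ∨ orderOf u = 5 := by
      intro u hu hu1
      have hd : orderOf u ∈ (35 : ℕ).divisors :=
        Nat.mem_divisors.2 ⟨hc35 ▸ (C q).orderOf_dvd_natCard hu, by norm_num⟩
      rw [show (35 : ℕ).divisors = {1, 5, 7, 35} by decide +kernel] at hd
      simp only [Finset.mem_insert, Finset.mem_singleton] at hd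
      rcases hd with hd | hd | hd | hd
      · exact absurd (orderOf_eq_one_iff.1 hd) hu1
      · exact Or.inr hd
      · exact Or.inl ⟨1, by rw [pow_one, hd]⟩
      · exact Or.inl ⟨5, by rw [orderOf_pow' _ (by norm_num), hd]; norm_num⟩
    by_cases hcase : ∃ u ∈ C q, u ≠ 1 ∧ Commute t u
    · obtain ⟨u, huC, hu1, htu⟩ := hcase
      rcases hprime u huC hu1 with ⟨i, hi⟩ | ho
      · have hmem := h7mem _ (N.pow_mem (hCN huC) i) hi
        have hgen : Subgroup.zpowers (u ^ i) = Subgroup.zpowers q := Subgroup.eq_of_le_of_card_ge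
          (Subgroup.zpowers_le.2 hmem) (by rw [Nat.card_zpowers, Nat.card_zpowers, hq, hi])
        obtain ⟨j, hj⟩ := Subgroup.mem_zpowers_iff.1 (hgen ▸ Subgroup.mem_zpowers q)
        exact htq (hj ▸ (htu.pow_right i).zpow_right j)
      · obtain ⟨-, hmod⟩ := fixed_mod t u ho htu a₀ (hbase u (hCN huC))
          (hfree5 u huC ho)
        omega
    · push Not at hcase
      have hle := fixed_le (X := G ⧸ N) (C q) a₀ (fun u hu' => hbase u (hCN hu'))
        (fun u hu' hu1 b hb => by
          rcases hprime u hu' hu1 with ⟨i, hi⟩ | ho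
          · obtain ⟨c', -, hu''⟩ := fixed_exists_unique P hP N le_rfl (u ^ i) hi
            have hb' : u ^ i • b = b :=
              (MulAction.stabilizer G b).pow_mem (show u ∈ MulAction.stabilizer G b from hb) i
            rw [hu'' b hb', hu'' a₀ (hbase _ (N.pow_mem (hCN hu') i))]
          · exact hfree5 u hu' ho b hb)
        t (hbase t htN)
        (fun u hu' => by
          rw [← hCP, Subgroup.mem_centralizer_iff] at hu' ⊢
          intro b hb
          have hb' : t⁻¹ * b * t ∈ (P : Subgroup G) := by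
            simpa using (Subgroup.mem_normalizer_iff.1 (N.inv_mem htN) b).1 hb
          calc b * (t * u * t⁻¹) = t * ((t⁻¹ * b * t) * u) * t⁻¹ := by group
            _ = t * (u * (t⁻¹ * b * t)) * t⁻¹ := by rw [hu' _ hb']
            _ = (t * u * t⁻¹) * b := by group)
        (fun u hu' he => by
          by_contra hu1
          exact hcase u hu' hu1 (mul_inv_eq_iff_eq_mul.1 he))
      rw [hc35, hX] at hle
      have hbt : a₀ ∈ fixedBy (G ⧸ N) t := hbase t htN
      have : 0 < Nat.card (fixedBy (G ⧸ N) t) := Nat.card_pos_iff.2 ⟨⟨⟨a₀, hbt⟩⟩, inferInstance⟩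
      omega
  · rw [← hcC]; interval_cases e <;> omega

theorem Hyp.not_seven_dvd (hy : Hyp G) {g : G} (h : ¬ orderOf g ∣ 7) : ¬ 7 ∣ Nat.card (C g) := by
  intro h7
  obtain ⟨q, hqC, hq⟩ := exists_orderOf (by norm_num) _ h7
  exact h ((hy.seven hq) ▸ (C q).orderOf_dvd_natCard (mem_C.2 (mem_C.1 hqC).symm))

/-- Centralisers and normalisers of elements of order five. -/
theorem Hyp.five (hy : Hyp G) {r : G} (hr : orderOf r = 5) :
    ∃ P : Sylow 5 G, (P : Subgroup G) = Subgroup.zpowers r ∧
      Subgroup.centralizer ((P : Subgroup G) : Set G) = C r ∧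
      Nat.card (Subgroup.normalizer ((P : Subgroup G) : Set G)) = 20 ∧ Nat.card (C r) ∣ 10 := by
  haveI : Fact (Nat.Prime 5) := ⟨by norm_num⟩
  haveI : Fact (Nat.Prime 2) := ⟨by norm_num⟩
  have hG := hy.not_comm
  have hc : Nat.card G = 5 ^ 1 * 504 := by rw [hy.card]; norm_num
  let P : Sylow 5 G := Sylow.ofCard (Subgroup.zpowers r) (by
    rw [Nat.card_zpowers, hr, ← (default : Sylow 5 G).card_eq_multiplicity, sylow_card hc (by norm_num),
      pow_one])
  have hP : Nat.card (P : Subgroup G) = 5 := (Nat.card_zpowers r).trans hr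
  have hCP : Subgroup.centralizer ((P : Subgroup G) : Set G) = C r := by
      ext g
      rw [Subgroup.mem_centralizer_iff, mem_C]
      refine ⟨fun h => (h r (Subgroup.mem_zpowers r)).symm, fun h z hz => ?_⟩
      obtain ⟨i, rfl⟩ := Subgroup.mem_zpowers_iff.1 (show z ∈ Subgroup.zpowers r from hz)
      exact (h.zpow_right i).eq.symm
  refine ⟨P, rfl, hCP, ?_⟩
  set N := Subgroup.normalizer ((P : Subgroup G) : Set G) with hN
  have hNi : N.index = Nat.card (Sylow 5 G) := by rw [P.card_eq_index_normalizer]; rfl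
  have hNc := N.index_mul_card
  rw [hy.card] at hNc
  obtain ⟨e, c, hec, he1, hed, h5c, hcC⟩ := normalizer_card_eq hG P hP
  rw [← hN] at hec
  obtain ⟨j, hj⟩ := h5c
  have he : e = 2 ∨ e = 4 := by
    have := Nat.le_of_dvd (by norm_num) hed
    interval_cases e <;> simp_all
  have hn := sylow_count_candidates (G := G) hc (by norm_num) (by norm_num) (by norm_num)
  rw [show candidates 5 504 = {6, 21, 36, 56, 126} by decide +kernel, ← hNi] at hn
  simp only [Finset.mem_insert, Finset.mem_singleton] at hn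
  have hNne : N ≠ ⊤ := fun h => by rw [h, Subgroup.index_top] at hn; omega
  have := hy.small N hNne
  rcases hn with hn | hn | hn | hn | hn <;> rw [hn] at hNc
  · omega
  · exfalso
    refine core hG P hP N le_rfl hn (by rw [← hN]; omega) ?_
    intro y hyN hy2
    have hCeven : Even (Nat.card (Subgroup.centralizer ((P : Subgroup G) : Set G))) := by
      rw [← hcC, even_iff_two_dvd]; rcases he with rfl | rfl <;> omega
    obtain ⟨z, hzC, hz2, hzy⟩ := exists_commuting (P : Subgroup G) (Subgroup.zpowers y)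
      (IsPGroup.of_card (n := 1) (by rw [Nat.card_zpowers, hy2, pow_one]))
      (Subgroup.zpowers_le.2 hyN) hCeven
    exact ⟨z, Subgroup.centralizer_le_normalizer _ hzC, hz2, hzy y (Subgroup.mem_zpowers y), r, hr,
      mem_C.1 (hCP ▸ hzC)⟩
  · exfalso
    have h7 : 7 ∣ Nat.card (C r) := by
      rw [← hCP, ← hcC]; rcases he with rfl | rfl <;> omega
    exact hy.not_seven_dvd (by rw [hr]; norm_num) h7
  · rcases he with rfl | rfl <;> omega
  · refine ⟨by omega, ?_⟩
    rw [← hCP, ← hcC]
    have : c = 5 ∨ c = 10 := by rcases he with rfl | rfl <;> omega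
    rcases this with h | h <;> rw [h] <;> norm_num

theorem Hyp.not_five_dvd (hy : Hyp G) {g : G} (h : ¬ orderOf g ∣ 10) : ¬ 5 ∣ Nat.card (C g) := by
  intro h5
  obtain ⟨r, hrC, hr⟩ := exists_orderOf (by norm_num) _ h5
  obtain ⟨P, -, -, -, hd⟩ := hy.five hr
  exact h (((C r).orderOf_dvd_natCard (mem_C.2 (mem_C.1 hrC).symm)).trans hd)

omit [IsSimpleGroup G] in
theorem card_C_conj (t g : G) : Nat.card (C (g * t * g⁻¹)) = Nat.card (C t) := by
  have : C (g * t * g⁻¹) = (C t).map (MulAut.conj g).toMonoidHom := by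
    ext z
    rw [mem_C, Subgroup.mem_map]
    constructor
    · intro hz
      refine ⟨g⁻¹ * z * g, mem_C.2 ?_, by simp [mul_assoc]⟩
      show g⁻¹ * z * g * t = t * (g⁻¹ * z * g)
      calc g⁻¹ * z * g * t = g⁻¹ * (z * (g * t * g⁻¹)) * g := by group
        _ = g⁻¹ * (g * t * g⁻¹ * z) * g := by rw [hz.eq]
        _ = _ := by group
    · rintro ⟨z, hz, rfl⟩
      show g * z * g⁻¹ * (g * t * g⁻¹) = g * t * g⁻¹ * (g * z * g⁻¹)
      calc g * z * g⁻¹ * (g * t * g⁻¹) = g * (z * t) * g⁻¹ := by group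
        _ = g * (t * z) * g⁻¹ := by rw [(mem_C.1 hz).eq]
        _ = _ := by group
  rw [this, Subgroup.card_map_of_injective (MulAut.conj g).injective]

/-- In the nonabelian case every involution is conjugate to the central one of a Sylow 2-subgroup. -/
theorem Hyp.conj_square (hy : Hyp G) {g t : G} (hg : orderOf g = 4) (ht : orderOf t = 2) :
    IsConj t (g ^ 2) := by
  have hi : (Subgroup.zpowers g).index = 630 := by
    have := (Subgroup.zpowers g).index_mul_card
    rw [Nat.card_zpowers, hg, hy.card] at this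
    omega
  obtain ⟨k, hk⟩ := fixed_parity hy.not_comm (X := G ⧸ Subgroup.zpowers g) t (ht ▸ pow_orderOf_eq_one t)
  rw [← Subgroup.index_eq_card, hi] at hk
  have hpos : Nat.card (fixedBy (G ⧸ Subgroup.zpowers g) t) ≠ 0 := by omega
  obtain ⟨⟨a, ha⟩⟩ := (Nat.card_ne_zero.1 hpos).1
  induction a using QuotientGroup.induction_on with
  | H c =>
    rw [MulAction.mem_fixedBy, MulAction.Quotient.smul_mk, smul_eq_mul, eq_comm, QuotientGroup.eq,
      ← mul_assoc] at ha
    have ho : orderOf (c⁻¹ * t * c) = 2 := by rw [← ht]; simpa using (MulAut.conj c⁻¹).orderOf_eq t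
    obtain ⟨i, hi4, hi'⟩ : ∃ i < 4, g ^ i = c⁻¹ * t * c := by
      rw [← mem_powers_iff_mem_zpowers] at ha
      obtain ⟨i, hi⟩ := Submonoid.mem_powers_iff _ _ |>.1 ha
      exact ⟨i % 4, Nat.mod_lt _ (by norm_num), by rw [← hi, ← hg, pow_mod_orderOf]⟩
    have hi2 : i = 2 := by
      rw [← hi'] at ho
      rcases Nat.eq_zero_or_pos i with h0 | h0
      · rw [h0, pow_zero, orderOf_one] at ho; omega
      · rw [orderOf_pow' g (by omega), hg] at ho
        interval_cases i <;> first | rfl | norm_num at ho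
    subst hi2
    exact isConj_iff.2 ⟨c⁻¹, by rw [inv_inv]; exact hi'.symm⟩

theorem Hyp.eight_dvd (hy : Hyp G) {t : G} (ht : orderOf t = 2) : 8 ∣ Nat.card (C t) := by
  haveI : Fact (Nat.Prime 2) := ⟨Nat.prime_two⟩
  have hc : Nat.card G = 2 ^ 3 * 315 := by rw [hy.card]; norm_num
  obtain ⟨S, hS⟩ := (IsPGroup.of_card (G := Subgroup.zpowers t) (p := 2) (n := 1)
    (by rw [Nat.card_zpowers, ht, pow_one])).exists_le_sylow
  have hSc : Nat.card (S : Subgroup G) = 8 := by rw [sylow_card hc (by norm_num) S]; norm_num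
  by_cases hexp : ∀ g ∈ (S : Subgroup G), g * g = 1
  · have hle : (S : Subgroup G) ≤ C t := fun g hg => mem_C.2 (by
      have htS := hS (Subgroup.mem_zpowers t)
      have e : ∀ z ∈ (S : Subgroup G), z⁻¹ = z := fun z hz => inv_eq_of_mul_eq_one_right (hexp z hz)
      show g * t = t * g
      rw [← e _ ((S : Subgroup G).mul_mem hg htS), mul_inv_rev, e g hg, e t htS])
    exact hSc ▸ Subgroup.card_dvd_of_le hle
  · push Not at hexp
    obtain ⟨g, hgS, hg⟩ := hexp
    by_cases h4 : orderOf g = 4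
    · have hle : (S : Subgroup G) ≤ C (g ^ 2) := by
        intro s hs
        have h := sq_central_of_order_eight hSc (g := (⟨g, hgS⟩ : (S : Subgroup G)))
          (by rw [← Subgroup.orderOf_coe]; exact h4) ⟨s, hs⟩
        have h' : s * g ^ 2 * s⁻¹ = g ^ 2 := congrArg Subtype.val h
        exact mem_C.2 (mul_inv_eq_iff_eq_mul.1 h')
      obtain ⟨c, hcc⟩ := isConj_iff.1 (hy.conj_square h4 ht)
      rw [← card_C_conj t c, hcc]
      exact hSc ▸ Subgroup.card_dvd_of_le hle
    · have h8 : orderOf g = 8 := by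
        have hd : orderOf g ∣ 8 := hSc ▸ Subgroup.orderOf_dvd_natCard (S : Subgroup G) hgS
        obtain ⟨j, hj, hjo⟩ := (Nat.dvd_prime_pow Nat.prime_two (m := 3)).1 hd
        have h2 : ¬ orderOf g ∣ 2 := fun h => hg (by rw [← pow_two]; exact orderOf_dvd_iff_pow_eq_one.1 h)
        interval_cases j <;> simp_all
      have heq : Subgroup.zpowers g = (S : Subgroup G) :=
        Subgroup.eq_of_le_of_card_ge (Subgroup.zpowers_le.2 hgS) (by rw [Nat.card_zpowers, h8, hSc])
      have hle : (S : Subgroup G) ≤ C t := fun s hs => mem_C.2 (by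
        have htS := hS (Subgroup.mem_zpowers t)
        rw [← heq] at hs htS
        obtain ⟨i, rfl⟩ := Subgroup.mem_zpowers_iff.1 hs
        obtain ⟨j, rfl⟩ := Subgroup.mem_zpowers_iff.1 htS
        exact ((Commute.refl g).zpow_left i).zpow_right j)
      exact hSc ▸ Subgroup.card_dvd_of_le hle

/-- An involution commuting with an element of order five commutes with no other conjugate of itself. -/
theorem Hyp.five_invol (hy : Hyp G) {t r : G} (ht : orderOf t = 2) (hr : orderOf r = 5)
    (hc : Commute t r) {g : G} (hg : Commute t (g * t * g⁻¹)) : g * t * g⁻¹ = t := by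
  haveI : Fact (Nat.Prime 5) := ⟨by norm_num⟩
  have hG := hy.not_comm
  obtain ⟨P, hPr, hCP, hN20, hd⟩ := hy.five hr
  have hP : Nat.card (P : Subgroup G) = 5 := by rw [hPr, Nat.card_zpowers, hr]
  have ht1 : t ≠ 1 := fun h => by rw [h, orderOf_one] at ht; omega
  have htC : t ∈ C r := mem_C.2 hc
  have hC10 : Nat.card (C r) = 10 := by
    have h2 : 2 ∣ Nat.card (C r) := ht ▸ (C r).orderOf_dvd_natCard htC
    have h5 : 5 ∣ Nat.card (C r) := hr ▸ (C r).orderOf_dvd_natCard (mem_C.2 (Commute.refl r))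
    have h10 : 10 ∣ Nat.card (C r) := Nat.Coprime.mul_dvd_of_dvd_of_dvd (by norm_num) h2 h5
    exact Nat.dvd_antisymm hd h10
  set N := Subgroup.normalizer ((P : Subgroup G) : Set G) with hN
  have hNt : N ≤ C t := by
    intro n hn
    have hnu : n * t * n⁻¹ ∈ C r := by
      rw [← hCP, Subgroup.mem_centralizer_iff] at htC ⊢
      intro b hb
      have hb' : n⁻¹ * b * n ∈ (P : Subgroup G) := by
        simpa using (Subgroup.mem_normalizer_iff.1 (N.inv_mem hn) b).1 hb
      calc b * (n * t * n⁻¹) = n * ((n⁻¹ * b * n) * t) * n⁻¹ := by group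
        _ = n * (t * (n⁻¹ * b * n)) * n⁻¹ := by rw [htC _ hb']
        _ = (n * t * n⁻¹) * b := by group
    set u := n * t * n⁻¹ with hu
    have hu2 : u * u = 1 := by
      rw [hu, show n * t * n⁻¹ * (n * t * n⁻¹) = n * (t * t) * n⁻¹ by group,
        ← pow_two, ← ht, pow_orderOf_eq_one]; simp
    have ht2 : t * t = 1 := by rw [← pow_two, ← ht, pow_orderOf_eq_one]
    set K := (Subgroup.zpowers r).subgroupOf (C r) with hK
    have hKi : K.index = 2 := by
      have h1 := K.index_mul_card
      rw [hC10, Nat.card_congr (Subgroup.subgroupOfEquivOfLe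
        (Subgroup.zpowers_le.2 (mem_C.2 (Commute.refl r)))).toEquiv, Nat.card_zpowers, hr] at h1
      omega
    have hout : ∀ w : G, ∀ hw : w ∈ C r, w * w = 1 → w ≠ 1 → (⟨w, hw⟩ : C r) ∉ K := by
      intro w hw hw2 hw1 hmem
      have h1 : orderOf w ∣ 5 := hr ▸ Nat.card_zpowers r ▸
        (Subgroup.zpowers r).orderOf_dvd_natCard (show w ∈ Subgroup.zpowers r from hmem)
      have h2 : orderOf w ∣ 2 := orderOf_dvd_of_pow_eq_one (by rw [pow_two, hw2])
      exact hw1 (orderOf_eq_one_iff.1 (Nat.dvd_one.1 (Nat.dvd_gcd h1 h2)))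
    have hu1 : u ≠ 1 := by
      rw [hu]; intro h; exact ht1 (conj_eq_one_iff.1 h)
    have hmem := (Subgroup.mul_mem_iff_of_index_two hKi).2
      (iff_of_false (hout u hnu hu2 hu1) (hout t (mem_C.2 hc) ht2 ht1))
    have hcut : Commute u t := by
      have hut : u * t ∈ Subgroup.zpowers r := hmem
      obtain ⟨i, hi⟩ := Subgroup.mem_zpowers_iff.1 hut
      have h1 : Commute (u * t) t := hi ▸ (hc.zpow_right i).symm
      have : u * t * t = t * (u * t) := h1.eq
      rw [mul_assoc, ht2, mul_one] at this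
      show u * t = t * u
      calc u * t = t * (u * t) * t := by rw [← this]
        _ = t * u * (t * t) := by group
        _ = t * u := by rw [ht2, mul_one]
    have h1 : orderOf (u * t) ∣ 5 := hr ▸ Nat.card_zpowers r ▸
      (Subgroup.zpowers r).orderOf_dvd_natCard (show u * t ∈ Subgroup.zpowers r from hmem)
    have h2 : orderOf (u * t) ∣ 2 := orderOf_dvd_of_pow_eq_one (by
      rw [hcut.mul_pow, pow_two, pow_two, hu2, ht2, one_mul])
    have h3 : u * t = 1 := orderOf_eq_one_iff.1 (Nat.dvd_one.1 (Nat.dvd_gcd h1 h2))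
    have h4 : u = t := (eq_inv_of_mul_eq_one_left h3).trans (inv_eq_of_mul_eq_one_right ht2)
    exact mem_C.2 (mul_inv_eq_iff_eq_mul.1 (hu ▸ h4))
  obtain ⟨hle, hdvd⟩ := hy.card_C ht1
  have h8 := hy.eight_dvd ht
  have h7 := hy.not_seven_dvd (g := t) (by rw [ht]; norm_num)
  have h20 : 20 ∣ Nat.card (C t) := hN20 ▸ Subgroup.card_dvd_of_le hNt
  have hrel := relIndex_mod P (C t) hNt
  have hmul : Nat.card N * N.relIndex (C t) = Nat.card (C t) := by
    rw [← Subgroup.relIndex_bot_left, ← Subgroup.relIndex_bot_left,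
      Subgroup.relIndex_mul_relIndex _ _ _ bot_le hNt]
  rw [hN20] at hmul
  rw [← hN] at hrel
  have hj : N.relIndex (C t) = 6 := by
    have hmem : Nat.card (C t) ∈ (Nat.divisors 2520).filter
        (fun d => d ≤ 315 ∧ 8 ∣ d ∧ 20 ∣ d ∧ ¬ 7 ∣ d) := by
      simp only [Finset.mem_filter, Nat.mem_divisors]
      exact ⟨⟨hdvd, by norm_num⟩, hle, h8, h20, h7⟩
    rw [show (Nat.divisors 2520).filter (fun d => d ≤ 315 ∧ 8 ∣ d ∧ 20 ∣ d ∧ ¬ 7 ∣ d) = {40, 120} by
      decide +kernel] at hmem
    simp only [Finset.mem_insert, Finset.mem_singleton] at hmem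
    omega
  have hX : Nat.card (G ⧸ C t) = 21 := by
    have h1 := (C t).index_mul_card
    rw [hy.card, ← hmul, hj, Subgroup.index_eq_card] at h1
    omega
  obtain ⟨a, ha, huq⟩ := fixed_exists_unique P hP (C t) hNt r hr
  obtain ⟨-, hmod⟩ := fixed_mod t r hr hc a ha huq
  obtain ⟨k, hk⟩ := fixed_parity hG (X := G ⧸ C t) t (ht ▸ pow_orderOf_eq_one t)
  have hnall := not_fix_all hG (C t) (C_ne_top hG ht1) t ht1
  have hone : Nat.card (fixedBy (G ⧸ C t) t) = 1 := by omega
  rw [Nat.card_eq_one_iff_unique] at hone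
  have hfix : ∀ k : G, Commute t (k * t * k⁻¹) → (QuotientGroup.mk k : G ⧸ C t) ∈ fixedBy (G ⧸ C t) t := by
    intro k hk
    rw [MulAction.mem_fixedBy, MulAction.Quotient.smul_mk, smul_eq_mul, eq_comm, QuotientGroup.eq, mem_C]
    show k⁻¹ * (t * k) * t = t * (k⁻¹ * (t * k))
    calc k⁻¹ * (t * k) * t = k⁻¹ * (t * (k * t * k⁻¹)) * k := by group
      _ = k⁻¹ * (k * t * k⁻¹ * t) * k := by rw [hk.eq]
      _ = _ := by group
  have heq := congrArg Subtype.val (hone.1.elim ⟨_, hfix g hg⟩ ⟨_, hfix 1 (by simp)⟩)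
  rw [QuotientGroup.eq, mul_one] at heq
  have := (mem_C.1 ((C t).inv_mem heq)).eq
  rw [inv_inv] at this
  rw [this]; group

end Cfsg.Agent.Lib.Order2520
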