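import Cfsg.Agent.Lib.Order2520.Local

/-!
# Simple groups of order 2520: neighbours and generation
-/

namespace Cfsg.Agent.Lib.Order2520

open Cfsg.Agent.Lib.SylowCounting

set_option linter.style.haveILetI false
set_option linter.unusedSectionVars false

variable {G : Type*} [Group G] [Finite G] [IsSimpleGroup G]

/-- Elements fixing or inverting `f`. -/
def Pm {G : Type*} [Group G] (f : G) : Subgroup G where
  carrier := {g | g * f * g⁻¹ = f ∨ g * f * g⁻¹ = f⁻¹}
  one_mem' := Or.inl (by simp)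
  mul_mem' := fun {a b} ha hb => by
    show a * b * f * (a * b)⁻¹ = f ∨ a * b * f * (a * b)⁻¹ = f⁻¹
    rw [show a * b * f * (a * b)⁻¹ = a * (b * f * b⁻¹) * a⁻¹ by group]
    rcases hb with hb | hb <;> rw [hb]
    · exact ha
    · rw [← conj_inv]
      rcases ha with ha | ha <;> rw [ha]
      · exact Or.inr rfl
      · exact Or.inl (inv_inv f)
  inv_mem' := fun {a} ha => by
    show a⁻¹ * f * a⁻¹⁻¹ = f ∨ a⁻¹ * f * a⁻¹⁻¹ = f⁻¹
    have h : ∀ z, a * f * a⁻¹ = z → a⁻¹ * z * a⁻¹⁻¹ = f := fun z hz => by rw [← hz]; group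
    rcases ha with ha | ha
    · exact Or.inl (h _ ha)
    · refine Or.inr (inv_injective ?_)
      rw [conj_inv, inv_inv f]
      exact h _ ha

theorem C_le_Pm {G : Type*} [Group G] (f : G) : C f ≤ Pm f := fun _ hg =>
  Or.inl (mul_inv_eq_iff_eq_mul.2 (mem_C.1 hg).eq)

theorem commute_of_mem_Pm {G : Type*} [Group G] {f s : G} (hf : orderOf f = 3) (hs : orderOf s = 3)
    (h : s ∈ Pm f) : Commute s f := by
  rcases h with h | h
  · exact mul_inv_eq_iff_eq_mul.1 h
  · refine commute_of_sq hs ?_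
    show s * s * f = f * (s * s)
    refine mul_inv_eq_iff_eq_mul.1 ?_
    calc s * s * f * (s * s)⁻¹ = s * (s * f * s⁻¹) * s⁻¹ := by group
      _ = s * f⁻¹ * s⁻¹ := by rw [h]
      _ = f := by rw [← conj_inv, h, inv_inv]

theorem Pair.conj {x y : G} (h : Pair x y) (g : G) : Pair (g * x * g⁻¹) (g * y * g⁻¹) := by
  refine ⟨h.gx.conj g, h.gy.conj g, ?_, ?_⟩
  · show g * x * g⁻¹ * (g * y * g⁻¹) = g * y * g⁻¹ * (g * x * g⁻¹)
    rw [conj_mul, conj_mul, h.comm.eq]
  · intro hm
    obtain ⟨i, hi⟩ := Subgroup.mem_zpowers_iff.1 hm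
    rw [conj_zpow, mul_left_inj, mul_right_inj] at hi
    exact h.indep (Subgroup.mem_zpowers_iff.2 ⟨i, hi⟩)

theorem Pair.inv_right {x y : G} (h : Pair x y) : Pair x y⁻¹ :=
  ⟨h.gx, h.gy.inv, h.comm.inv_right, fun hm => h.indep (inv_inv y ▸ inv_mem hm)⟩

theorem Pair.ne_comm {x y : G} (hy : Hyp G) (h : Pair x y) {v : G} (hv : orderOf v = 2)
    (hvy : Commute v y) : ¬ Commute v x := by
  intro hvx
  rcases hy.invol_line h.gx hv hvx h.gy.1 hvy with h' | h'
  · exact h.indep (h' ▸ Subgroup.mem_zpowers x)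
  · exact h.indep (h' ▸ inv_mem (Subgroup.mem_zpowers x))

/-- The neighbours of `b`. -/
theorem Hyp.nbr (hy : Hyp G) {a b v : G} (hp : Pair a b) (hv : orderOf v = 2) (hvb : Commute v b)
    {f : G} (hf : Good f) (hfb : Commute f b) :
    f = b ∨ f = b⁻¹ ∨ ∃ s, (s = a ∨ s = a⁻¹) ∧
      (f = s ∨ ∃ j : ℕ, j < 3 ∧ f = a ^ j * v * s * (a ^ j * v)⁻¹) := by
  haveI : Fact (Nat.Prime 3) := ⟨by norm_num⟩
  by_cases hm : f ∈ Subgroup.zpowers b
  · rcases mem_zpowers_three hp.gy.1 hm with h | h | h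
    · exact absurd h hf.one_ne
    · exact Or.inl h
    · exact Or.inr (Or.inl h)
  refine Or.inr (Or.inr ?_)
  have hbf : Pair b f := ⟨hp.gy, hf, hfb.symm, hm⟩
  obtain ⟨P, hbP, haP⟩ := hp.symm.exists_sylow
  obtain ⟨Q, hbQ, hfQ⟩ := hbf.exists_sylow
  obtain ⟨U, -, hU2, hUchar, -, hdec, htrans⟩ := hy.four hp.symm
  obtain ⟨c, hc⟩ := MulAction.exists_smul_eq (C b) (P.subtype (hy.sylow_le P hbP))
    (Q.subtype (hy.sylow_le Q hbQ))
  rw [Sylow.smul_subtype] at hc
  have hcP : (c : G) • P = Q := Sylow.subtype_injective hc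
  set f' := (c : G)⁻¹ * f * (c : G) with hf'
  have hf'P : f' ∈ (P : Subgroup G) := by
    have h := hfQ
    rw [← hcP, Sylow.coe_subgroup_smul, Subgroup.mem_pointwise_smul_iff_inv_smul_mem] at h
    simpa [hf'] using h
  have hf'g : Good f' := by
    have := hf.conj (c : G)⁻¹
    rwa [inv_inv] at this
  have hfc : f = (c : G) * f' * (c : G)⁻¹ := by rw [hf']; group
  have hs : f' = a ∨ f' = a⁻¹ := by
    rcases hy.good_cases hp.symm P hbP haP hf'g hf'P with h | h | h | h
    · exfalso; apply hm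
      rw [hfc, h, mul_inv_eq_iff_eq_mul.2 (mem_C.1 c.2).eq]
      exact Subgroup.mem_zpowers b
    · exfalso; apply hm
      rw [hfc, h, mul_inv_eq_iff_eq_mul.2 ((mem_C.1 c.2).inv_right).eq]
      exact inv_mem (Subgroup.mem_zpowers b)
    · exact Or.inl h
    · exact Or.inr h
  refine ⟨f', hs, ?_⟩
  obtain ⟨u, hu, P', hbP', haP', p, hp', hcup⟩ := hdec (c : G) (mem_C.1 c.2)
  have hpc : Commute p f' := by
    rcases hs with h | h <;> rw [h]
    · exact hy.comm_three P' hp' haP'
    · exact hy.comm_three P' hp' (inv_mem haP')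
  have hfu : f = u * f' * u⁻¹ := by
    rw [hfc, hcup]
    calc u * p * f' * (u * p)⁻¹ = u * (p * f') * p⁻¹ * u⁻¹ := by group
      _ = u * (f' * p) * p⁻¹ * u⁻¹ := by rw [hpc.eq]
      _ = u * f' * u⁻¹ := by group
  by_cases hu1 : u = 1
  · exact Or.inl (by rw [hfu, hu1]; simp)
  have hv1 : v ≠ 1 := fun h => by rw [h, orderOf_one] at hv; omega
  have hvU : v ∈ U := hUchar v hvb (pow_four_of_sq (by rw [← pow_two, ← hv, pow_orderOf_eq_one]))
  obtain ⟨j, hj, hju⟩ := htrans v hvU hv1 u hu hu1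
  refine Or.inr ⟨j, hj, ?_⟩
  have haj : Commute (a ^ j) f' := by
    rcases hs with h | h <;> rw [h]
    · exact (Commute.refl a).pow_left j
    · exact ((Commute.refl a).pow_left j).inv_right
  rw [hfu, hju]
  calc a ^ j * v * (a ^ j)⁻¹ * f' * (a ^ j * v * (a ^ j)⁻¹)⁻¹
      = a ^ j * v * ((a ^ j)⁻¹ * (f' * a ^ j)) * v⁻¹ * (a ^ j)⁻¹ := by group
    _ = a ^ j * v * ((a ^ j)⁻¹ * (a ^ j * f')) * v⁻¹ * (a ^ j)⁻¹ := by rw [haj.eq]
    _ = _ := by group

/-- The element at distance two attached to a pair and an involution. -/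
theorem Hyp.zed (hy : Hyp G) {x y v : G} (hp : Pair x y) (hv : orderOf v = 2) (hvy : Commute v y) :
    Pair y (v * x⁻¹ * v⁻¹) ∧ (x * (v * x⁻¹ * v⁻¹)) * (x * (v * x⁻¹ * v⁻¹)) = 1 ∧
      ¬ Commute x (v * x⁻¹ * v⁻¹) ∧ (∀ f, orderOf f = 3 → Commute f x → Commute f (v * x⁻¹ * v⁻¹) →
        f = y ∨ f = y⁻¹) := by
  have hpz : Pair y (v * x⁻¹ * v⁻¹) := by
    have h := (hp.symm.inv_right).conj v
    rwa [mul_inv_eq_iff_eq_mul.2 hvy.eq] at h
  set z := v * x⁻¹ * v⁻¹ with hz
  obtain ⟨U, -, hU2, hUchar, -, -, -⟩ := hy.four hp.symm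
  have hv2 : v * v = 1 := by rw [← pow_two, ← hv, pow_orderOf_eq_one]
  have hvU : v ∈ U := hUchar v hvy (pow_four_of_sq hv2)
  have hxv : x * v * x⁻¹ ∈ U := hUchar _
    ((hp.comm.mul_left hvy).mul_left hp.comm.inv_left) (by rw [conj_pow, pow_four_of_sq hv2]; simp)
  have hxz : x * z ∈ U := by
    rw [hz, show x * (v * x⁻¹ * v⁻¹) = x * v * x⁻¹ * v⁻¹ by group]
    exact mul_mem hxv (inv_mem hvU)
  have h2 := (hU2 _ hxz).1
  have hne : x * z ≠ 1 := by
    intro h
    apply hp.ne_comm hy hv hvy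
    have h' : z = x⁻¹ := (inv_eq_of_mul_eq_one_right h).symm
    exact Commute.inv_right_iff.1 (mul_inv_eq_iff_eq_mul.1 (hz ▸ h'))
  refine ⟨hpz, h2, fun hc => hne ?_, fun f hf hfx hfz => ?_⟩
  · have h3 : (x * z) ^ 3 = 1 := by
      rw [hc.mul_pow, ← hp.gx.1, pow_orderOf_eq_one, one_mul, hp.gx.1, ← hpz.gy.1, pow_orderOf_eq_one]
    rwa [pow_succ, pow_two, h2, one_mul] at h3
  · exact hy.invol_line hp.gy (orderOf_eq_prime (p := 2) (by rw [pow_two, h2]) hne) (hU2 _ hxz).2 hf
      (hfx.mul_right hfz).symm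

/-- A subgroup containing `C(x)` and an involution of a neighbour is everything. -/
theorem Hyp.gen_top (hy : Hyp G) {x y v : G} (hp : Pair x y) (hv : orderOf v = 2) (hvy : Commute v y)
    (M : Subgroup G) (hCM : C x ≤ M) (hvM : v ∈ M) : M = ⊤ := by
  haveI : Fact (Nat.Prime 3) := ⟨by norm_num⟩
  haveI : Fact (Nat.Prime 7) := ⟨by norm_num⟩
  by_contra hM
  obtain ⟨hle, hdvd⟩ := hy.card_le M hM
  obtain ⟨hC, -⟩ := hy.good_card hp.gx
  obtain ⟨hpz, -, hncz, -⟩ := hy.zed hp hv hvy
  have hzM : v * x⁻¹ * v⁻¹ ∈ M :=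
    mul_mem (mul_mem hvM (hCM (mem_C.2 (Commute.refl x).inv_left))) (inv_mem hvM)
  have hzord := hpz.gy.1
  have hmem : Nat.card M ∈ (Nat.divisors 2520).filter (fun d => d ≤ 315 ∧ 36 ∣ d) := by
    simp only [Finset.mem_filter, Nat.mem_divisors]
    exact ⟨⟨hdvd, by norm_num⟩, hle, hC ▸ Subgroup.card_dvd_of_le hCM⟩
  rw [show (Nat.divisors 2520).filter (fun d => d ≤ 315 ∧ 36 ∣ d) = {36, 72, 180, 252} by decide +kernel]
    at hmem
  simp only [Finset.mem_insert, Finset.mem_singleton] at hmem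
  have hidx := ((C x).subgroupOf M).index_mul_card
  rw [Nat.card_congr (Subgroup.subgroupOfEquivOfLe hCM).toEquiv, hC] at hidx
  rcases hmem with h | h | h | h
  · rw [h] at hidx
    have hi : ((C x).subgroupOf M).index = 1 := by omega
    exact hncz (mem_C.1 (Subgroup.index_eq_one.1 hi ▸ Subgroup.mem_top (⟨_, hzM⟩ : M) :
      (⟨_, hzM⟩ : M) ∈ (C x).subgroupOf M)).symm
  · rw [h] at hidx
    have hi : ((C x).subgroupOf M).index = 2 := by omega
    exact hncz (commute_of_sq hzord (mem_C.1 (Subgroup.mul_self_mem_of_index_two hi (⟨_, hzM⟩ : M)))).symm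
  · obtain ⟨P, hxP, hyP⟩ := hp.exists_sylow
    obtain ⟨r, hr, hr'⟩ := sylow_relIndex_mod P M ((hy.sylow_le P hxP).trans hCM)
    set MN := M ⊓ Subgroup.normalizer ((P : Subgroup G) : Set G) with hMN
    have h9 : 9 ∣ Nat.card MN := hy.card_three P ▸ Subgroup.card_dvd_of_le
      (le_inf ((hy.sylow_le P hxP).trans hCM) Subgroup.le_normalizer)
    have h36 : Nat.card MN ∣ 36 := hy.card_normalizer_three P ▸ Subgroup.card_dvd_of_le inf_le_right
    have h18 : 2 ∣ Nat.card MN := by
      by_contra h2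
      obtain ⟨i, hi⟩ := h9
      have := Nat.le_of_dvd (by norm_num) h36
      have : i ≤ 4 := by omega
      rw [h, hi] at hr'
      interval_cases i <;> omega
    obtain ⟨k, hk, hk2⟩ := exists_orderOf Nat.prime_two MN h18
    have hk1 : k * k = 1 := by rw [← pow_two, ← hk2, pow_orderOf_eq_one]
    obtain ⟨hC', hCN⟩ := hy.good_card hp.gx
    have hkx : ¬ Commute k x := fun hc => by
      have := hy.not_invol_mem P hk1 (hCN P hxP k hk.2 hc)
      rw [this, orderOf_one] at hk2
      omega
    set x' := k * x * k⁻¹ with hx'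
    have hx'P : x' ∈ (P : Subgroup G) := (Subgroup.mem_normalizer_iff.1 hk.2 x).1 hxP
    by_cases hinv : x' = x⁻¹
    · have hKle : C x ≤ M ⊓ Pm x := le_inf hCM (C_le_Pm x)
      have hkK : k ∈ M ⊓ Pm x := ⟨hk.1, Or.inr hinv⟩
      obtain ⟨i, hi⟩ := Subgroup.card_dvd_of_le hKle
      rw [hC] at hi
      have hd := h ▸ Subgroup.card_dvd_of_le (inf_le_left : M ⊓ Pm x ≤ M)
      have hi1 : i ≠ 1 := fun h1 => hkx (mem_C.1 ((Subgroup.eq_of_le_of_card_ge hKle
        (by rw [hi, h1, hC])).symm ▸ hkK))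
      have hi5 : Nat.card ↥(M ⊓ Pm x) = 180 := by
        rw [hi] at hd ⊢
        have : i ≤ 5 := by have := Nat.le_of_dvd (by norm_num) hd; omega
        have : i ≠ 0 := by rintro rfl; norm_num at hd
        interval_cases i <;> omega
      have heq := Subgroup.eq_of_le_of_card_ge (inf_le_left : M ⊓ Pm x ≤ M) (by omega)
      exact hncz (commute_of_mem_Pm hp.gx.1 hzord (heq.symm ▸ hzM :
        v * x⁻¹ * v⁻¹ ∈ M ⊓ Pm x).2).symm
    · have hx'g : Good x' := hp.gx.conj k
      have hne : x' ≠ x := fun h' => hkx (mul_inv_eq_iff_eq_mul.1 h')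
      have hpair : Pair x x' := ⟨hp.gx, hx'g, hy.comm_three P hxP hx'P, fun hm => by
        rcases mem_zpowers_three hp.gx.1 hm with h' | h' | h'
        exacts [hx'g.one_ne h', hne h', hinv h']⟩
      have hkc : Commute k (x * x') := by
        refine mul_inv_eq_iff_eq_mul.1 ?_
        have hki : k⁻¹ = k := inv_eq_of_mul_eq_one_right hk1
        have hkx' : k * x' * k⁻¹ = x := by
          rw [hx', hki, show k * (k * x * k) * k = k * k * x * (k * k) by group, hk1]; simp
        rw [← conj_mul, ← hx', hkx', (hy.comm_three P hx'P hxP).eq]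
      have hne1 : x * x' ≠ 1 := fun h' => hinv (inv_eq_of_mul_eq_one_right h').symm
      have hord : orderOf (x * x') = 3 := by
        refine orderOf_eq_prime ?_ hne1
        rw [(hy.comm_three P hxP hx'P).mul_pow, ← hp.gx.1, pow_orderOf_eq_one, one_mul, hp.gx.1,
          ← hx'g.1, pow_orderOf_eq_one]
      rcases hy.good_cases hpair P hxP hx'P (hy.nice_good hord hk2 hkc) (mul_mem hxP hx'P)
        with h' | h' | h' | h'
      · exact hx'g.one_ne (mul_eq_left.1 h')
      · rw [← (sq_eq_inv_of_three hp.gx.1).1, mul_right_inj] at h'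
        exact hne h'
      · exact hp.gx.one_ne (mul_eq_right.1 h')
      · rw [← (sq_eq_inv_of_three hx'g.1).1, mul_left_inj] at h'
        exact hne h'.symm
  · have hM7 : Nat.card M = 7 ^ 1 * 36 := by rw [h]; norm_num
    have hn := sylow_count_mem (G := M) hM7 (by norm_num)
    rw [show ((36 : ℕ).divisors.filter fun d => d % 7 = 1) = {1, 36} by decide +kernel] at hn
    simp only [Finset.mem_insert, Finset.mem_singleton] at hn
    rcases hn with hn | hn
    · obtain ⟨Q₀⟩ : Nonempty (Sylow 7 M) := inferInstance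
      haveI : Subsingleton (Sylow 7 M) := (Nat.card_eq_one_iff_unique.1 hn).1
      haveI := Q₀.normal_of_subsingleton
      set Q₁ : Subgroup G := (Q₀ : Subgroup M).map M.subtype with hQ₁
      have hQ1 : Nat.card Q₁ = 7 := by
        rw [hQ₁, Subgroup.card_map_of_injective M.subtype_injective,
          sylow_card hM7 (by norm_num) Q₀, pow_one]
      let Q : Sylow 7 G := Sylow.ofCard Q₁ (by
        rw [hQ1, ← (default : Sylow 7 G).card_eq_multiplicity,
          sylow_card (p := 7) (k := 1) (m := 360) (by rw [hy.card]; norm_num) (by norm_num), pow_one])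
      have hMN : M ≤ Subgroup.normalizer ((Q : Subgroup G) : Set G) := by
        intro g hg
        refine Subgroup.mem_normalizer_iff.2 fun q => ?_
        show q ∈ Q₁ ↔ g * q * g⁻¹ ∈ Q₁
        constructor
        · rintro ⟨q', hq', rfl⟩
          exact ⟨⟨g, hg⟩ * q' * ⟨g, hg⟩⁻¹, Subgroup.Normal.conj_mem inferInstance q' hq' _, rfl⟩
        · rintro ⟨q', hq', he⟩
          refine ⟨⟨g, hg⟩⁻¹ * q' * ⟨g, hg⟩⁻¹⁻¹, Subgroup.Normal.conj_mem inferInstance q' hq' _, ?_⟩
          have he' : (q' : G) = g * q * g⁻¹ := he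
          show g⁻¹ * (q' : G) * g⁻¹⁻¹ = q
          rw [he']; group
      obtain ⟨e, c, hec, -, he, -, hc⟩ := normalizer_card_eq hy.not_comm Q (show Nat.card Q₁ = 7 from hQ1)
      obtain ⟨q, hqQ, hq⟩ := exists_orderOf (p := 7) (by norm_num) Q₁ (by rw [hQ1])
      have hc7 : c ≤ 7 := by
        refine hc.trans_le ((Subgroup.card_le_of_le (K := C q) ?_).trans (hy.seven hq).le)
        exact fun g hg => mem_C.2 ((Subgroup.mem_centralizer_iff.1 hg) q hqQ).symm
      have he6 := Nat.le_of_dvd (by norm_num) he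
      have hle' := Subgroup.card_le_of_le hMN
      rw [h, hec] at hle'
      have := Nat.mul_le_mul he6 hc7
      omega
    · have hcount := card_orderOf_eq_prime (G := M) (p := 7)
        (fun P => by rw [sylow_card hM7 (by norm_num) P, pow_one])
      rw [hn] at hcount
      have hvC : v ∉ C x := fun hc => hp.ne_comm hy hv hvy (mem_C.1 hc)
      let ι : Option (C x) → {g : M // ¬ orderOf g = 7} := fun o =>
        match o with
        | none => ⟨⟨v, hvM⟩, by rw [← Subgroup.orderOf_coe]; show ¬ orderOf v = 7; omega⟩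
        | some c => ⟨⟨c.1, hCM c.2⟩, by
            rw [← Subgroup.orderOf_coe]
            intro h7
            have h' := (C x).orderOf_dvd_natCard c.2
            rw [hC, show orderOf (c : G) = 7 from h7] at h'
            omega⟩
      have hι : Function.Injective ι := by
        rintro (_ | a) (_ | b) hab
        · rfl
        · have he : v = (b : G) := congrArg (fun t : {g : M // ¬ orderOf g = 7} => (t.1 : G)) hab
          exact absurd (he.symm ▸ b.2) hvC
        · have he : (a : G) = v := congrArg (fun t : {g : M // ¬ orderOf g = 7} => (t.1 : G)) hab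
          exact absurd (he ▸ a.2) hvC
        · exact congrArg some (Subtype.ext
            (congrArg (fun t : {g : M // ¬ orderOf g = 7} => (t.1 : G)) hab))
      have h1 := Nat.card_le_card_of_injective ι hι
      rw [Finite.card_option, hC] at h1
      have h2 := card_add_le_of_disjoint (fun g : M => orderOf g = 7) (fun g => ¬ orderOf g = 7)
        (fun _ a b => b a)
      have h3 := Finite.card_subtype_le (fun g : M => orderOf g = 7 ∨ ¬ orderOf g = 7)
      omega

/-- Six-coset closure: adjoining one generator. -/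
theorem card_closure_insert {G : Type*} [Group G] [Finite G] (S : Finset G) (b : G)
    (hs3 : ∀ s ∈ S, s * s * s = 1) (hb3 : b * b * b = 1)
    (hsb : ∀ s ∈ S, (s * b) * (s * b) = 1)
    (hst : ∀ s ∈ S, ∀ t ∈ S, s ≠ t → (s * t) * (s * t) = 1) :
    Nat.card (Subgroup.closure ((S : Set G) ∪ {b})) ≤
      (3 + S.card) * Nat.card (Subgroup.closure (S : Set G)) := by
  classical
  set K := Subgroup.closure (S : Set G) with hK
  let T : Finset G := ({1, b, b * b} : Finset G) ∪ S.image (fun s => b * b * s)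
  let U : Set G := {g | ∃ k ∈ K, ∃ t ∈ T, g = k * t}
  have hSK : ∀ s ∈ S, s ∈ K := fun s hs => Subgroup.subset_closure (Finset.mem_coe.2 hs)
  have hbb : b * b = b⁻¹ := eq_inv_of_mul_eq_one_left hb3
  have e1 : ∀ s ∈ S, b * s = s⁻¹ * (b * b) := by
    intro s hs
    have := hsb s hs
    calc b * s = s⁻¹ * (s * b * (s * b)) * b⁻¹ := by group
      _ = s⁻¹ * b⁻¹ := by rw [this, mul_one]
      _ = s⁻¹ * (b * b) := by rw [hbb]
  have hmemT : ∀ k ∈ K, ∀ t, (t = 1 ∨ t = b ∨ t = b * b ∨ ∃ s ∈ S, t = b * b * s) → k * t ∈ U := by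
    intro k hk t ht
    refine ⟨k, hk, t, ?_, rfl⟩
    simp only [T, Finset.mem_union, Finset.mem_insert, Finset.mem_singleton, Finset.mem_image]
    rcases ht with h | h | h | ⟨s, hs, h⟩
    · exact Or.inl (Or.inl h)
    · exact Or.inl (Or.inr (Or.inl h))
    · exact Or.inl (Or.inr (Or.inr h))
    · exact Or.inr ⟨s, hs, h.symm⟩
  have hmul : ∀ g ∈ U, ∀ w ∈ (S : Set G) ∪ {b}, g * w ∈ U := by
    rintro g ⟨k, hk, t, ht, rfl⟩ w hw
    simp only [T, Finset.mem_union, Finset.mem_insert, Finset.mem_singleton, Finset.mem_image] at ht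
    rcases hw with hw | hw
    · replace hw : w ∈ S := hw
      rcases ht with (rfl | rfl | rfl) | ⟨s, hs, rfl⟩
      · rw [mul_one]
        simpa using hmemT (k * w) (mul_mem hk (hSK w hw)) 1 (Or.inl rfl)
      · rw [mul_assoc, e1 w hw, ← mul_assoc]
        exact hmemT _ (mul_mem hk (inv_mem (hSK w hw))) _ (Or.inr (Or.inr (Or.inl rfl)))
      · rw [mul_assoc]
        exact hmemT k hk _ (Or.inr (Or.inr (Or.inr ⟨w, hw, rfl⟩)))
      · by_cases hsw : s = w
        · subst hsw
          have he : b * b * s * s = s * b := by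
            have h1 := hsb s hs
            have hss : s * s = s⁻¹ := eq_inv_of_mul_eq_one_left (hs3 s hs)
            calc b * b * s * s = b * b * (s * s) := by group
              _ = b * b * s⁻¹ := by rw [hss]
              _ = b * b * (b * s * b) := by
                rw [show s⁻¹ = b * s * b from inv_eq_of_mul_eq_one_right (by
                  rw [← h1]; group)]
              _ = b * b * b * (s * b) := by group
              _ = s * b := by rw [hb3, one_mul]
          rw [mul_assoc, he, ← mul_assoc]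
          exact hmemT _ (mul_mem hk (hSK s hs)) b (Or.inr (Or.inl rfl))
        · have h2 : s * w = w⁻¹ * s⁻¹ := by
            rw [← mul_inv_rev]
            exact eq_inv_of_mul_eq_one_left (hst s hs w hw hsw)
          have hs2 : ∀ u ∈ S, b * b * u⁻¹ = u * b := fun u hu => by
            rw [show u⁻¹ = b * u * b from inv_eq_of_mul_eq_one_right (by rw [← hsb u hu]; group)]
            calc b * b * (b * u * b) = b * b * b * (u * b) := by group
              _ = u * b := by rw [hb3, one_mul]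
          have he' : b * b * s * w = w * s⁻¹ * (b * b * s) := by
            calc b * b * s * w = b * b * (s * w) := by group
              _ = b * b * w⁻¹ * s⁻¹ := by rw [h2]; group
              _ = w * b * s⁻¹ := by rw [hs2 w hw]
              _ = w * (b * s) * (s⁻¹ * s⁻¹) := by group
              _ = w * (s⁻¹ * (b * b)) * s := by
                rw [e1 s hs, show s⁻¹ * s⁻¹ = s by
                  rw [← mul_inv_rev, eq_inv_of_mul_eq_one_left (hs3 s hs), inv_inv]]
              _ = _ := by group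
          rw [mul_assoc, he', ← mul_assoc]
          exact hmemT _ (mul_mem hk (mul_mem (hSK w hw) (inv_mem (hSK s hs)))) _
            (Or.inr (Or.inr (Or.inr ⟨s, hs, rfl⟩)))
    · replace hw : w = b := hw
      subst hw
      rcases ht with (rfl | rfl | rfl) | ⟨s, hs, rfl⟩
      · rw [mul_one]; exact hmemT k hk _ (Or.inr (Or.inl rfl))
      · rw [mul_assoc]; exact hmemT k hk _ (Or.inr (Or.inr (Or.inl rfl)))
      · rw [mul_assoc, hb3]; exact hmemT k hk _ (Or.inl rfl)
      · have hss : s⁻¹ * s⁻¹ = s := by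
          rw [← mul_inv_rev, eq_inv_of_mul_eq_one_left (hs3 s hs), inv_inv]
        have he : w * w * s * w = s⁻¹ * (w * w * s) := by
          calc w * w * s * w = w * w * (s * w) := by group
            _ = w * w * (w⁻¹ * s⁻¹) := by
              rw [← mul_inv_rev, ← eq_inv_of_mul_eq_one_left (hsb s hs)]
            _ = w * s * (s⁻¹ * s⁻¹) := by group
            _ = s⁻¹ * (w * w) * s := by rw [e1 s hs, hss]
            _ = _ := by group
        rw [mul_assoc, he, ← mul_assoc]
        exact hmemT _ (mul_mem hk (inv_mem (hSK s hs))) _ (Or.inr (Or.inr (Or.inr ⟨s, hs, rfl⟩)))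
  have hsub : ∀ g ∈ Subgroup.closure ((S : Set G) ∪ {b}), g ∈ U := by
    intro g hg
    rw [← Subgroup.mem_toSubmonoid, Subgroup.closure_toSubmonoid_of_finite] at hg
    induction hg using Submonoid.closure_induction_right with
    | one => simpa using hmemT 1 K.one_mem 1 (Or.inl rfl)
    | mul_right x hx y hy ih => exact hmul x ih y hy
  let F : Subgroup.closure ((S : Set G) ∪ {b}) → T × K := fun g =>
    (⟨(hsub g g.2).choose_spec.2.choose, (hsub g g.2).choose_spec.2.choose_spec.1⟩,
      ⟨(hsub g g.2).choose, (hsub g g.2).choose_spec.1⟩)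
  have hF : Function.Injective F := by
    intro g g' hgg
    apply Subtype.ext
    refine ((hsub g g.2).choose_spec.2.choose_spec.2).trans
      (Eq.trans ?_ ((hsub g' g'.2).choose_spec.2.choose_spec.2).symm)
    have h1 := congrArg (fun p : T × K => (p.2 : G)) hgg
    have h2 := congrArg (fun p : T × K => (p.1 : G)) hgg
    exact congrArg₂ (· * ·) h1 h2
  have h := Nat.card_le_card_of_injective F hF
  rw [Nat.card_prod, Nat.card_eq_finsetCard] at h
  refine h.trans (Nat.mul_le_mul_right _ ?_)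
  refine (Finset.card_union_le _ _).trans ?_
  exact Nat.add_le_add Finset.card_le_three Finset.card_image_le

end Cfsg.Agent.Lib.Order2520
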