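import Cfsg.Agent.Lib.Order2520.Three

/-!
# Simple groups of order 2520: fusion in a Sylow 3-normaliser, involutions
-/

namespace Cfsg.Agent.Lib.Order2520

open MulAction Cfsg.Agent.Lib.SylowCounting

set_option linter.style.haveILetI false
set_option linter.unusedSectionVars false

variable {G : Type*} [Group G] [Finite G] [IsSimpleGroup G]

theorem Hyp.pow_nine (hy : Hyp G) (P : Sylow 3 G) {g : G} (hg : g ∈ (P : Subgroup G)) : g ^ 9 = 1 :=
  orderOf_dvd_iff_pow_eq_one.1 (hy.card_three P ▸ (P : Subgroup G).orderOf_dvd_natCard hg)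

theorem Hyp.not_invol_mem (hy : Hyp G) (P : Sylow 3 G) {g : G} (h2 : g * g = 1)
    (hg : g ∈ (P : Subgroup G)) : g = 1 := by
  have h9 := hy.pow_nine P hg
  rw [show 9 = 2 * 4 + 1 from rfl, pow_succ, pow_mul, pow_two, h2, one_pow, one_mul] at h9
  exact h9

theorem Good.one_ne {x : G} (h : Good x) : x ≠ 1 := (sq_eq_inv_of_three h.1).2.2.2

theorem pow_four_of_sq {G : Type*} [Group G] {w : G} (h : w * w = 1) : w ^ 4 = 1 := by
  rw [pow_succ, pow_succ, pow_two, mul_assoc, h, mul_one]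

theorem Pair.symm {x y : G} (h : Pair x y) : Pair y x := by
  refine ⟨h.gy, h.gx, h.comm.symm, fun hx => h.indep ?_⟩
  rcases mem_zpowers_three h.gy.1 hx with h1 | h1 | h1
  · exact absurd h1 h.gx.one_ne
  · rw [h1]; exact Subgroup.mem_zpowers y
  · rw [show y = x⁻¹ by rw [h1, inv_inv]]; exact inv_mem (Subgroup.mem_zpowers x)

theorem Pair.exists_sylow {x y : G} (h : Pair x y) :
    ∃ P : Sylow 3 G, x ∈ (P : Subgroup G) ∧ y ∈ (P : Subgroup G) := by
  have hle : Subgroup.zpowers y ≤ Subgroup.normalizer (Subgroup.zpowers x : Set G) := by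
    rw [Subgroup.zpowers_le, Subgroup.mem_normalizer_iff_map_conj_eq, MonoidHom.map_zpowers]
    congr 1
    exact mul_inv_eq_iff_eq_mul.2 h.comm.eq.symm
  have hp := (IsPGroup.of_card (G := Subgroup.zpowers x) (p := 3) (n := 1)
    (by rw [Nat.card_zpowers, h.gx.1, pow_one])).to_sup_of_normal_left'
    (IsPGroup.of_card (G := Subgroup.zpowers y) (p := 3) (n := 1)
      (by rw [Nat.card_zpowers, h.gy.1, pow_one])) hle
  obtain ⟨P, hP⟩ := hp.exists_le_sylow
  exact ⟨P, hP (Subgroup.mem_sup_left (Subgroup.mem_zpowers x)),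
    hP (Subgroup.mem_sup_right (Subgroup.mem_zpowers y))⟩

/-- A subgroup of `P` containing `x` and an element outside its line is all of `P`. -/
theorem Hyp.eq_P (hy : Hyp G) (P : Sylow 3 G) {S : Subgroup G} (hS : S ≤ (P : Subgroup G)) {x z : G}
    (hx : orderOf x = 3) (hxS : x ∈ S) (hzS : z ∈ S) (hz : z ∉ Subgroup.zpowers x) :
    S = (P : Subgroup G) := by
  have hle : Subgroup.zpowers x ≤ S := Subgroup.zpowers_le.2 hxS
  have h3 : 3 < Nat.card S := by
    by_contra hle3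
    exact hz ((Subgroup.eq_of_le_of_card_ge hle
      (by rw [Nat.card_zpowers, hx]; omega)).symm ▸ hzS)
  have hd : Nat.card S ∣ 3 ^ 2 := by
    have := Subgroup.card_dvd_of_le hS
    rwa [hy.card_three P] at this
  obtain ⟨j, hj, hjo⟩ := (Nat.dvd_prime_pow (p := 3) (by norm_num) (m := 2)).1 hd
  refine Subgroup.eq_of_le_of_card_ge hS ?_
  rw [hy.card_three P, hjo]
  rw [hjo] at h3
  interval_cases j <;> omega

/-- An element commuting with both generators centralises the Sylow subgroup. -/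
theorem Hyp.gen_P (hy : Hyp G) {x y : G} (h : Pair x y) (P : Sylow 3 G)
    (hxP : x ∈ (P : Subgroup G)) (hyP : y ∈ (P : Subgroup G)) {g : G} (h1 : Commute g x)
    (h2 : Commute g y) : ∀ p ∈ (P : Subgroup G), Commute g p := by
  intro p hp
  have hSP := hy.eq_P P (inf_le_left : (P : Subgroup G) ⊓ C g ≤ (P : Subgroup G)) h.gx.1
    ⟨hxP, mem_C.2 h1.symm⟩ ⟨hyP, mem_C.2 h2.symm⟩ h.indep
  exact (mem_C.1 (hSP.symm ▸ hp : p ∈ (P : Subgroup G) ⊓ C g).2).symm

/-- The four conjugates of `x` under `N(P)` are `x^±` and `y^±` for a pair `x, y`. -/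
theorem Hyp.orbit (hy : Hyp G) {x : G} (hx : Good x) (P : Sylow 3 G) (hxP : x ∈ (P : Subgroup G)) :
    ∃ y ∈ (P : Subgroup G), Pair x y ∧ (∃ h ∈ Subgroup.normalizer ((P : Subgroup G) : Set G), y = h * x * h⁻¹) ∧
      (∃ k, orderOf k = 2 ∧ k ∈ Subgroup.normalizer ((P : Subgroup G) : Set G) ∧ k * x * k⁻¹ = x⁻¹) ∧
      ∀ h ∈ Subgroup.normalizer ((P : Subgroup G) : Set G),
        h * x * h⁻¹ = x ∨ h * x * h⁻¹ = x⁻¹ ∨ h * x * h⁻¹ = y ∨ h * x * h⁻¹ = y⁻¹ := by
  classical
  haveI : Fintype G := Fintype.ofFinite G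
  haveI : Fact (Nat.Prime 2) := ⟨Nat.prime_two⟩
  set N := Subgroup.normalizer ((P : Subgroup G) : Set G) with hN
  obtain ⟨ho, -⟩ := id hx
  obtain ⟨hC, hCN⟩ := hy.good_card hx
  have hCN' : ∀ g ∈ N, Commute g x → g ∈ (P : Subgroup G) := hCN P hxP
  have hN36 : Nat.card N = 36 := hy.card_normalizer_three P
  have hconj : ∀ g ∈ N, ∀ z ∈ (P : Subgroup G), g * z * g⁻¹ ∈ (P : Subgroup G) := fun g hg z hz =>
    (Subgroup.mem_normalizer_iff.1 hg z).1 hz
  -- the orbit has four elements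
  set PN := (P : Subgroup G).subgroupOf N with hPN
  haveI : PN.Normal := Subgroup.normal_subgroupOf_iff_le_normalizer Subgroup.le_normalizer |>.2 le_rfl
  have hQ4 : Nat.card (N ⧸ PN) = 4 := by
    have h := PN.index_mul_card
    rw [hN36, Nat.card_congr (Subgroup.subgroupOfEquivOfLe Subgroup.le_normalizer).toEquiv,
      hy.card_three P, Subgroup.index_eq_card] at h
    omega
  let φ : N ⧸ PN → G := fun q => Quotient.liftOn' q (fun h : N => (h : G) * x * (h : G)⁻¹) (by
    intro a b hab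
    rw [QuotientGroup.leftRel_apply] at hab
    have hp : (a : G)⁻¹ * b ∈ (P : Subgroup G) := hab
    have hc := hy.comm_three P hp hxP
    calc (a : G) * x * (a : G)⁻¹ = a * (x * ((a : G)⁻¹ * b)) * (b : G)⁻¹ := by group
      _ = a * (((a : G)⁻¹ * b) * x) * (b : G)⁻¹ := by rw [hc.eq]
      _ = (b : G) * x * (b : G)⁻¹ := by group)
  have hφ : Function.Injective φ := by
    intro a b hab
    induction a using QuotientGroup.induction_on with
    | H a =>
      induction b using QuotientGroup.induction_on with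
      | H b =>
        rw [QuotientGroup.eq]
        have hab' : (a : G) * x * (a : G)⁻¹ = (b : G) * x * (b : G)⁻¹ := hab
        refine hCN' _ (N.mul_mem (N.inv_mem a.2) b.2) ?_
        show (a : G)⁻¹ * b * x = x * ((a : G)⁻¹ * b)
        calc (a : G)⁻¹ * b * x = (a : G)⁻¹ * ((b : G) * x * (b : G)⁻¹) * b := by group
          _ = (a : G)⁻¹ * ((a : G) * x * (a : G)⁻¹) * b := by rw [hab']
          _ = _ := by group
  set O : Finset G := Finset.univ.filter (fun z => ∃ h ∈ N, h * x * h⁻¹ = z) with hO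
  have hO4 : O.card = 4 := by
    rw [← Nat.card_eq_finsetCard, ← hQ4]
    symm
    refine Nat.card_eq_of_bijective (fun q => (⟨φ q, ?_⟩ : O)) ⟨fun a b h => hφ (congrArg Subtype.val h), ?_⟩
    · induction q using QuotientGroup.induction_on with
      | H a => exact Finset.mem_filter.2 ⟨Finset.mem_univ _, a, a.2, rfl⟩
    · rintro ⟨z, hz⟩
      obtain ⟨-, h, hh, rfl⟩ := Finset.mem_filter.1 hz
      exact ⟨QuotientGroup.mk (⟨h, hh⟩ : N), Subtype.ext rfl⟩
  have hmemO : ∀ h ∈ N, h * x * h⁻¹ ∈ O := fun h hh =>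
    Finset.mem_filter.2 ⟨Finset.mem_univ _, h, hh, rfl⟩
  -- an inverting element
  have hinv : x⁻¹ ∈ O := by
    obtain ⟨k, hkN, hk⟩ := exists_orderOf Nat.prime_two N (by rw [hN36]; norm_num)
    have hk2 : k * k = 1 := by rw [← pow_two, ← hk, pow_orderOf_eq_one]
    have hk1 : k ≠ 1 := fun h => by rw [h, orderOf_one] at hk; omega
    have hkP : k ∉ (P : Subgroup G) := fun h => hk1 (hy.not_invol_mem P hk2 h)
    have hki : k⁻¹ = k := inv_eq_of_mul_eq_one_right hk2
    set x' := k * x * k⁻¹ with hx'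
    have hx'P : x' ∈ (P : Subgroup G) := hconj k hkN x hxP
    have hkx' : k * x' * k⁻¹ = x := by
      rw [hx', hki, show k * (k * x * k) * k = (k * k) * x * (k * k) by group, hk2]; simp
    by_cases hxx' : x' = x⁻¹
    · exact hxx' ▸ hmemO k hkN
    set f := x * x' with hf
    set u := x * x'⁻¹ with hu
    have hfP : f ∈ (P : Subgroup G) := mul_mem hxP hx'P
    have huP : u ∈ (P : Subgroup G) := mul_mem hxP (inv_mem hx'P)
    have hf1 : f ≠ 1 := fun h => hxx' (eq_inv_of_mul_eq_one_right h)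
    have hu1 : u ≠ 1 := fun h => by
      have he : x = x' := mul_inv_eq_one.1 h
      exact hkP (hCN' k hkN (mul_inv_eq_iff_eq_mul.1 (hx' ▸ he.symm)))
    have hfk : k * f * k⁻¹ = f := by
      rw [hf, conj_mul.symm, ← hx', hkx']
      exact (hy.comm_three P hx'P hxP).eq
    have huk : k * u * k⁻¹ = u⁻¹ := by
      rw [hu, conj_mul.symm, ← conj_inv, ← hx', hkx', mul_inv_rev, inv_inv]
    -- the two eigenlines
    let S₁ : Subgroup G := (P : Subgroup G) ⊓ C k
    let S₂ : Subgroup G :=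
      { carrier := {z | z ∈ (P : Subgroup G) ∧ k * z * k⁻¹ = z⁻¹}
        one_mem' := ⟨one_mem _, by simp⟩
        mul_mem' := fun {a b} ha hb => ⟨mul_mem ha.1 hb.1, by
          rw [← conj_mul, ha.2, hb.2, mul_inv_rev, (hy.comm_three P (inv_mem ha.1) (inv_mem hb.1)).eq]⟩
        inv_mem' := fun {a} ha => ⟨inv_mem ha.1, by rw [← conj_inv, ha.2]⟩ }
    have hline : ∀ S : Subgroup G, S ≤ (P : Subgroup G) → x ∉ S → ∀ a ∈ S, a ≠ 1 →
        ∀ z ∈ S, z ≠ 1 → z = a ∨ z = a⁻¹ := by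
      intro S hS hxS a ha ha1 z hz hz1
      have hd : Nat.card S ∣ 3 ^ 2 := by
        have := Subgroup.card_dvd_of_le hS
        rwa [hy.card_three P] at this
      obtain ⟨j, hj, hjo⟩ := (Nat.dvd_prime_pow (p := 3) (by norm_num) (m := 2)).1 hd
      have hao : orderOf a ∣ Nat.card S := S.orderOf_dvd_natCard ha
      interval_cases j
      · rw [hjo, pow_zero, Nat.dvd_one, orderOf_eq_one_iff] at hao
        exact absurd hao ha1
      · have hao3 : orderOf a = 3 := by
          rw [hjo, pow_one] at hao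
          exact ((Nat.dvd_prime (by norm_num)).1 hao).resolve_left (fun h => ha1 (orderOf_eq_one_iff.1 h))
        have hgen : Subgroup.zpowers a = S := Subgroup.eq_of_le_of_card_ge (Subgroup.zpowers_le.2 ha)
          (by rw [hjo, Nat.card_zpowers, hao3]; norm_num)
        exact (mem_zpowers_three hao3 (hgen.symm ▸ hz)).resolve_left hz1
      · exact absurd ((Subgroup.eq_of_le_of_card_ge hS (by rw [hjo, hy.card_three P]; norm_num)).symm ▸ hxP) hxS
    have hxS1 : x ∉ S₁ := fun h => hkP (hCN' k hkN (mem_C.1 h.2).symm)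
    have hxS2 : x ∉ S₂ := fun h => hxx' (hx' ▸ h.2)
    -- `N/P` is commutative
    have hcomm : ∀ h ∈ N, ∀ z ∈ (P : Subgroup G), k * (h * z * h⁻¹) * k⁻¹ = h * (k * z * k⁻¹) * h⁻¹ := by
      intro h hh z hz
      haveI : IsMulCommutative (N ⧸ PN) :=
        IsPGroup.isMulCommutative_of_card_eq_prime_sq (p := 2) (by rw [hQ4]; norm_num)
      have he : (QuotientGroup.mk (⟨h, hh⟩ * ⟨k, hkN⟩ : N) : N ⧸ PN) =
          QuotientGroup.mk (⟨k, hkN⟩ * ⟨h, hh⟩ : N) := by
        rw [QuotientGroup.mk_mul, QuotientGroup.mk_mul]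
        exact IsMulCommutative.is_comm.comm _ _
      have hp' := QuotientGroup.eq.1 he
      have hp : (h * k)⁻¹ * (k * h) ∈ (P : Subgroup G) := hp'
      have hc := hy.comm_three P hp hz
      calc k * (h * z * h⁻¹) * k⁻¹ = (h * k) * (((h * k)⁻¹ * (k * h)) * z) * (k * h)⁻¹ := by group
        _ = (h * k) * (z * ((h * k)⁻¹ * (k * h))) * (k * h)⁻¹ := by rw [hc.eq]
        _ = _ := by group
    have hne1 : ∀ h z : G, z ≠ 1 → h * z * h⁻¹ ≠ 1 := fun h z hz he => hz (conj_eq_one_iff.1 he)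
    have hsub : O ⊆ ({(f * u)⁻¹, (f⁻¹ * u)⁻¹, (f * u⁻¹)⁻¹, (f⁻¹ * u⁻¹)⁻¹} : Finset G) := by
      intro z hz
      obtain ⟨-, h, hh, rfl⟩ := Finset.mem_filter.1 hz
      have h1 := hline S₁ inf_le_left hxS1 f ⟨hfP, mem_C.2 (mul_inv_eq_iff_eq_mul.1 hfk : k * f = f * k).symm⟩ hf1
        (h * f * h⁻¹) ⟨hconj h hh f hfP, mem_C.2 (mul_inv_eq_iff_eq_mul.1
          (show k * (h * f * h⁻¹) * k⁻¹ = h * f * h⁻¹ by rw [hcomm h hh f hfP, hfk])).symm⟩
        (hne1 h f hf1)
      have h2 := hline S₂ (fun a ha => ha.1) hxS2 u ⟨huP, huk⟩ hu1 (h * u * h⁻¹)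
        ⟨hconj h hh u huP, by rw [hcomm h hh u huP, huk, conj_inv]⟩ (hne1 h u hu1)
      have hfu : f * u = x⁻¹ := by
        have hc := hy.comm_three P hx'P hxP
        calc f * u = x * (x' * x) * x'⁻¹ := by rw [hf, hu]; group
          _ = x * (x * x') * x'⁻¹ := by rw [hc.eq]
          _ = x * x := by group
          _ = x⁻¹ := (sq_eq_inv_of_three ho).1
      have hz' : h * x * h⁻¹ = ((h * f * h⁻¹) * (h * u * h⁻¹))⁻¹ := by
        rw [conj_mul, hfu, ← conj_inv, inv_inv]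
      rw [hz']
      rcases h1 with h1 | h1 <;> rcases h2 with h2 | h2 <;> rw [h1, h2] <;>
        simp only [Finset.mem_insert, Finset.mem_singleton, true_or, or_true]
    have hT : O = ({(f * u)⁻¹, (f⁻¹ * u)⁻¹, (f * u⁻¹)⁻¹, (f⁻¹ * u⁻¹)⁻¹} : Finset G) :=
      Finset.eq_of_subset_of_card_le hsub (hO4 ▸ Finset.card_le_four)
    rw [hT]
    have hlast : (f⁻¹ * u⁻¹)⁻¹ = x⁻¹ := by
      have hc := hy.comm_three P hxP hx'P
      rw [mul_inv_rev, inv_inv, inv_inv, hu, hf]
      calc x * x'⁻¹ * (x * x') = x * x'⁻¹ * (x' * x) := by rw [hc.eq]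
        _ = x * x := by group
        _ = x⁻¹ := (sq_eq_inv_of_three ho).1
    rw [← hlast]
    simp
  obtain ⟨-, h, hh, hhx⟩ := Finset.mem_filter.1 hinv
  have hxN : x⁻¹ ≠ x := (sq_eq_inv_of_three ho).2.2.1
  have hxO : x ∈ O := by simpa using hmemO 1 N.one_mem
  obtain ⟨y, hyO, hyne⟩ : ∃ y ∈ O, y ∉ ({x, x⁻¹} : Finset G) := by
    by_contra hcon
    push Not at hcon
    have := (Finset.card_le_card hcon).trans Finset.card_le_two
    omega
  simp only [Finset.mem_insert, Finset.mem_singleton, not_or] at hyne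
  obtain ⟨-, g, hg, rfl⟩ := Finset.mem_filter.1 hyO
  have hgood := hx.conj g
  refine ⟨_, hconj g hg x hxP, ⟨hx, hgood, hy.comm_three P hxP (hconj g hg x hxP), fun hm => ?_⟩,
    ⟨g, hg, rfl⟩, ?_, ?_⟩
  · rcases mem_zpowers_three ho hm with h1 | h1 | h1
    · exact hgood.one_ne h1
    · exact hyne.1 h1
    · exact hyne.2 h1
  · have h2 : h * h ∈ (P : Subgroup G) := by
      refine hCN' _ (N.mul_mem hh hh) (mul_inv_eq_iff_eq_mul.1 ?_)
      calc h * h * x * (h * h)⁻¹ = h * (h * x * h⁻¹) * h⁻¹ := by group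
        _ = h * x⁻¹ * h⁻¹ := by rw [hhx]
        _ = x := by rw [← conj_inv, hhx, inv_inv]
    have h8 : (h * h) ^ 4 ∈ (P : Subgroup G) := pow_mem h2 4
    have hk' : h ^ 9 * x * (h ^ 9)⁻¹ = x⁻¹ := by
      have hc := hy.comm_three P h8 hxP
      have he : h ^ 9 = h * (h * h) ^ 4 := by rw [← pow_two, ← pow_mul, ← pow_succ']
      rw [he]
      calc h * (h * h) ^ 4 * x * (h * (h * h) ^ 4)⁻¹ = h * ((h * h) ^ 4 * x) * ((h * h) ^ 4)⁻¹ * h⁻¹ := by group
        _ = h * (x * (h * h) ^ 4) * ((h * h) ^ 4)⁻¹ * h⁻¹ := by rw [hc.eq]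
        _ = h * x * h⁻¹ := by group
        _ = x⁻¹ := hhx
    refine ⟨h ^ 9, orderOf_eq_prime ?_ (fun h1 => ?_), N.pow_mem hh 9, hk'⟩
    · rw [← pow_mul, show 9 * 2 = 2 * 9 from rfl, pow_mul, pow_two]
      exact hy.pow_nine P h2
    · rw [h1] at hk'
      exact hxN (by simpa using hk'.symm)
  · intro a ha
    have hsub : ({x, x⁻¹, g * x * g⁻¹, (g * x * g⁻¹)⁻¹} : Finset G) ⊆ O := by
      intro z hz
      simp only [Finset.mem_insert, Finset.mem_singleton] at hz
      rcases hz with rfl | rfl | rfl | rfl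
      · exact hxO
      · exact hinv
      · exact hyO
      · have : (g * x * g⁻¹)⁻¹ = g * h * x * (g * h)⁻¹ := by
          rw [conj_inv, ← hhx]; group
        rw [this]
        exact hmemO _ (N.mul_mem hg hh)
    have hcard : ({x, x⁻¹, g * x * g⁻¹, (g * x * g⁻¹)⁻¹} : Finset G).card = 4 := by
      have hd := (sq_eq_inv_of_three hgood.1).2.2.1
      have e1 : x ≠ (g * x * g⁻¹)⁻¹ := fun h' => hyne.2 (by rw [← inv_inv (g * x * g⁻¹), ← h'])
      rw [Finset.card_insert_of_notMem, Finset.card_insert_of_notMem, Finset.card_insert_of_notMem,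
        Finset.card_singleton] <;> simp only [Finset.mem_insert, Finset.mem_singleton, not_or]
      · exact hd.symm
      · exact ⟨Ne.symm hyne.2, fun h' => hyne.1 (inv_injective h').symm⟩
      · exact ⟨hxN.symm, Ne.symm hyne.1, e1⟩
    have hfin := Finset.eq_of_subset_of_card_le hsub (by rw [hcard, hO4])
    have := hfin.symm ▸ hmemO a ha
    simpa only [Finset.mem_insert, Finset.mem_singleton] using this

set_option maxHeartbeats 800000 in
/-- The four group attached to a pair. -/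
theorem Hyp.four (hy : Hyp G) {x y : G} (h : Pair x y) :
    ∃ U : Subgroup G, Nat.card U = 4 ∧ (∀ u ∈ U, u * u = 1 ∧ Commute u x) ∧
      (∀ g : G, Commute g x → g ^ 4 = 1 → g ∈ U) ∧ (∀ u ∈ U, Commute u y → u = 1) ∧
      (∀ g : G, Commute g x → ∃ u ∈ U, ∃ P : Sylow 3 G, x ∈ (P : Subgroup G) ∧ y ∈ (P : Subgroup G) ∧
        ∃ p ∈ (P : Subgroup G), g = u * p) ∧
      (∀ u ∈ U, u ≠ 1 → ∀ v ∈ U, v ≠ 1 → ∃ j < 3, v = y ^ j * u * (y ^ j)⁻¹) := by
  classical
  haveI : Fact (Nat.Prime 2) := ⟨Nat.prime_two⟩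
  haveI : Fintype G := Fintype.ofFinite G
  obtain ⟨P, hxP, hyP⟩ := h.exists_sylow
  obtain ⟨hC, hCN⟩ := hy.good_card h.gx
  obtain ⟨T⟩ : Nonempty (Sylow 2 (C x)) := inferInstance
  set U : Subgroup G := (T : Subgroup (C x)).map (C x).subtype with hU
  have hUc : Nat.card U = 4 := by
    rw [hU, Subgroup.card_map_of_injective (C x).subtype_injective,
      sylow_card (p := 2) (k := 2) (m := 9) (by rw [hC]; norm_num) (by norm_num) T]
    norm_num
  have hUC : U ≤ C x := Subgroup.map_subtype_le _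
  have hU4 : ∀ u ∈ U, u ^ 4 = 1 := fun u hu =>
    orderOf_dvd_iff_pow_eq_one.1 (hUc ▸ U.orderOf_dvd_natCard hu)
  have hUP : ∀ u ∈ U, u ∈ (P : Subgroup G) → u = 1 := by
    intro u hu huP
    have h9 := hy.pow_nine P huP
    rw [show 9 = 4 * 2 + 1 from rfl, pow_succ, pow_mul, hU4 u hu, one_pow, one_mul] at h9
    exact h9
  set X := Subgroup.zpowers x with hX
  have hXP : X ≤ (P : Subgroup G) := Subgroup.zpowers_le.2 hxP
  let ψ : U × (P : Subgroup G) → G := fun a =>
    if (a.2 : G) ∈ X then (a.1 : G) * a.2 else (a.1 : G) * a.2 * (a.1 : G)⁻¹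
  have hXc : ∀ u ∈ U, ∀ c ∈ X, Commute u c := by
    intro u hu c hc
    obtain ⟨i, rfl⟩ := Subgroup.mem_zpowers_iff.1 hc
    exact (mem_C.1 (hUC hu)).zpow_right i
  have hcube : ∀ u ∈ U, ∀ c ∈ X, (u * c) ^ 3 = 1 → u = 1 := by
    intro u hu c hc h3
    have hc3 : c ^ 3 = 1 := orderOf_dvd_iff_pow_eq_one.1
      (h.gx.1 ▸ Nat.card_zpowers x ▸ X.orderOf_dvd_natCard hc)
    rw [(hXc u hu c hc).mul_pow, hc3, mul_one] at h3
    have h4 := hU4 u hu
    rw [pow_succ, h3, one_mul] at h4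
    exact h4
  have hp3 : ∀ p ∈ (P : Subgroup G), p ^ 3 = 1 := by
    intro p hp
    rcases eq_or_ne (p ^ 3) 1 with h' | h'
    · exact h'
    exfalso
    have h9 : orderOf p = 9 := by
      have hd : orderOf p ∣ 3 ^ 2 := by
        have := (P : Subgroup G).orderOf_dvd_natCard hp
        rwa [hy.card_three P] at this
      obtain ⟨j, hj, hjo⟩ := (Nat.dvd_prime_pow (p := 3) (by norm_num)).1 hd
      have : ¬ orderOf p ∣ 3 := fun hh => h' (orderOf_dvd_iff_pow_eq_one.1 hh)
      rw [hjo] at this ⊢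
      interval_cases j <;> first | rfl | (exfalso; omega)
    have hgen : Subgroup.zpowers p = (P : Subgroup G) := Subgroup.eq_of_le_of_card_ge
      (Subgroup.zpowers_le.2 hp) (by rw [Nat.card_zpowers, h9, hy.card_three P])
    have hl : ∀ z ∈ Subgroup.zpowers p, orderOf z = 3 → z ∈ Subgroup.zpowers (p ^ 3) := by
      intro z hz hz3
      obtain ⟨i, rfl⟩ := Subgroup.mem_zpowers_iff.1 hz
      have hd : (9 : ℤ) ∣ i * 3 := by
        rw [← Int.natCast_dvd_natCast.2 (dvd_refl 9) |> fun _ => (show ((orderOf p : ℕ) : ℤ) = 9 by rw [h9]; rfl)]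
        rw [orderOf_dvd_iff_zpow_eq_one, zpow_mul]
        have := pow_orderOf_eq_one (p ^ i)
        rw [hz3] at this
        exact_mod_cast this
      obtain ⟨c, hc⟩ : (3 : ℤ) ∣ i := by omega
      refine Subgroup.mem_zpowers_iff.2 ⟨c, ?_⟩
      rw [hc, zpow_mul]; norm_cast
    have hxm := hl x (hgen.symm ▸ hxP) h.gx.1
    have hym := hl y (hgen.symm ▸ hyP) h.gy.1
    have h33 : Nat.card (Subgroup.zpowers (p ^ 3)) = 3 := by
      rw [Nat.card_zpowers, orderOf_pow' p (by norm_num), h9]; rfl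
    exact h.indep ((Subgroup.eq_of_le_of_card_ge (Subgroup.zpowers_le.2 hxm)
      (by rw [h33, Nat.card_zpowers, h.gx.1])).symm ▸ hym)
  have hψinj : Function.Injective ψ := by
    rintro ⟨⟨u, hu⟩, ⟨p, hp⟩⟩ ⟨⟨u', hu'⟩, ⟨p', hp'⟩⟩ he
    simp only [ψ] at he
    have hc3 : ∀ v q : G, q ∈ (P : Subgroup G) → (v * q * v⁻¹) ^ 3 = 1 := fun v q hq => by
      rw [conj_pow, hp3 q hq]; simp
    by_cases hc : p ∈ X <;> by_cases hc' : p' ∈ X <;> simp only [hc, hc', if_true, if_false] at he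
    · have h1 : u'⁻¹ * u = p' * p⁻¹ := by
        calc u'⁻¹ * u = u'⁻¹ * (u * p) * p⁻¹ := by group
          _ = u'⁻¹ * (u' * p') * p⁻¹ := by rw [he]
          _ = p' * p⁻¹ := by group
      have h2 := hUP _ (mul_mem (inv_mem hu') hu) (h1 ▸ mul_mem hp' (inv_mem hp))
      have h3 : u' = u := inv_mul_eq_one.1 h2
      subst h3
      simp only [mul_right_inj] at he
      subst he
      rfl
    · have h1 := hcube u hu p hc (by rw [he]; exact hc3 u' p' hp')
      rw [h1, one_mul] at he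
      exfalso; apply hc'
      have : u'⁻¹ * p * u' = p' := by rw [he]; group
      rw [← this, mul_assoc, ← (hXc u' hu' p hc).eq, inv_mul_cancel_left]
      exact hc
    · have h1 := hcube u' hu' p' hc' (by rw [← he]; exact hc3 u p hp)
      rw [h1, one_mul] at he
      exfalso; apply hc
      have : u⁻¹ * p' * u = p := by rw [← he]; group
      rw [← this, mul_assoc, ← (hXc u hu p' hc').eq, inv_mul_cancel_left]
      exact hc'
    · set w := u'⁻¹ * u with hw
      have hwU : w ∈ U := mul_mem (inv_mem hu') hu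
      have hwp : w * p * w⁻¹ = p' := by
        calc w * p * w⁻¹ = u'⁻¹ * (u * p * u⁻¹) * u' := by rw [hw]; group
          _ = u'⁻¹ * (u' * p' * u'⁻¹) * u' := by rw [he]
          _ = p' := by group
      have hwN : w ∈ Subgroup.normalizer ((P : Subgroup G) : Set G) := by
        have hgen : (P : Subgroup G) ≤ (P : Subgroup G).comap (MulAut.conj w).toMonoidHom := by
          intro q hq
          set S := (P : Subgroup G) ⊓ (P : Subgroup G).comap (MulAut.conj w).toMonoidHom with hS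
          have hxS : x ∈ S := by
            refine ⟨hxP, ?_⟩
            show w * x * w⁻¹ ∈ (P : Subgroup G)
            rw [mul_inv_eq_iff_eq_mul.2 (mem_C.1 (hUC hwU)).eq]
            exact hxP
          have hpS : p ∈ S := ⟨hp, show w * p * w⁻¹ ∈ (P : Subgroup G) from hwp ▸ hp'⟩
          have hSP : S = (P : Subgroup G) := hy.eq_P P inf_le_left h.gx.1 hxS hpS hc
          exact (hSP.symm ▸ hq : q ∈ S).2
        rw [Subgroup.mem_normalizer_iff_map_conj_eq]
        refine Subgroup.eq_of_le_of_card_ge (Subgroup.map_le_iff_le_comap.2 hgen) ?_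
        rw [Subgroup.card_map_of_injective (MulAut.conj w).injective]
      have h2 := hUP w hwU (hCN P hxP w hwN (mem_C.1 (hUC hwU)))
      have h3 : u' = u := inv_mul_eq_one.1 h2
      subst h3
      simp only [mul_left_inj, mul_right_inj] at he
      subst he
      rfl
  have hψC : ∀ a, ψ a ∈ C x := by
    rintro ⟨⟨u, hu⟩, ⟨p, hp⟩⟩
    have h1 := hUC hu
    have h2 := hy.sylow_le P hxP hp
    simp only [ψ]
    split_ifs
    · exact mul_mem h1 h2
    · exact mul_mem (mul_mem h1 h2) (inv_mem h1)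
  have hsurj : ∀ g ∈ C x, ∃ a, ψ a = g := by
    intro g hg
    have hb : Function.Bijective (fun a => (⟨ψ a, hψC a⟩ : C x)) :=
      (Nat.bijective_iff_injective_and_card _).2 ⟨fun a b hab => hψinj (congrArg Subtype.val hab), by
        rw [Nat.card_prod, hUc, hy.card_three P, hC]⟩
    obtain ⟨a, ha⟩ := hb.2 ⟨g, hg⟩
    exact ⟨a, congrArg Subtype.val ha⟩
  have hchar : ∀ g : G, Commute g x → g ^ 4 = 1 → g ∈ U := by
    intro g hg h4
    obtain ⟨⟨⟨u, hu⟩, ⟨p, hp⟩⟩, rfl⟩ := hsurj g (mem_C.2 hg)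
    simp only [ψ] at h4 ⊢
    split_ifs at h4 ⊢ with hc
    · rw [(hXc u hu p hc).mul_pow, hU4 u hu, one_mul, pow_succ, hp3 p hp, one_mul] at h4
      rw [h4, mul_one]; exact hu
    · exfalso
      rw [conj_pow, pow_succ, hp3 p hp, one_mul, conj_eq_one_iff] at h4
      exact hc (h4 ▸ X.one_mem)
  have hynorm : ∀ u ∈ U, y * u * y⁻¹ ∈ U := by
    intro u hu
    refine hchar _ ?_ (by rw [conj_pow, hU4 u hu]; simp)
    exact ((h.comm.symm.mul_left (mem_C.1 (hUC hu))).mul_left h.comm.symm.inv_left)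
  have hfix : ∀ u ∈ U, Commute u y → u = 1 := fun u hu hc =>
    hUP u hu (hy.self_cent P (hy.gen_P h P hxP hyP (mem_C.1 (hUC hu)) hc))
  have hsq : ∀ u ∈ U, u * u = 1 := by
    intro u hu
    by_contra h2
    have hou : orderOf u = 4 := orderOf_eq_prime_pow (p := 2) (n := 1)
      (by simpa [pow_two] using h2) (by simpa using hU4 u hu)
    have hgen : Subgroup.zpowers u = U := Subgroup.eq_of_le_of_card_ge (Subgroup.zpowers_le.2 hu)
      (by rw [Nat.card_zpowers, hou, hUc])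
    have hm := hgen.symm ▸ hynorm (u * u) (mul_mem hu hu)
    obtain ⟨i, hi⟩ := Subgroup.mem_zpowers_iff.1 hm
    have h2' : (y * (u * u) * y⁻¹) * (y * (u * u) * y⁻¹) = 1 := by
      rw [conj_mul, ← pow_two, ← pow_two u, ← pow_mul, hU4 u hu]; simp
    rw [← hi, ← zpow_add, ← orderOf_dvd_iff_zpow_eq_one, hou] at h2'
    have hne : ¬ (4 : ℤ) ∣ i := fun hd => h2 (by
      rw [show (4 : ℤ) = ((orderOf u : ℕ) : ℤ) by rw [hou]; rfl, orderOf_dvd_iff_zpow_eq_one, hi,
        conj_eq_one_iff] at hd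
      exact hd)
    have hi4 : (4 : ℤ) ∣ i - 2 := by omega
    have : y * (u * u) * y⁻¹ = u * u := by
      rw [← hi, show i = (i - 2) + 2 by ring, zpow_add, zpow_two,
        orderOf_dvd_iff_zpow_eq_one.1 (show ((orderOf u : ℕ) : ℤ) ∣ i - 2 by rw [hou]; exact hi4), one_mul]
    have := hfix _ (mul_mem hu hu) (mul_inv_eq_iff_eq_mul.1 this : y * (u * u) = u * u * y).symm
    exact h2 this
  refine ⟨U, hUc, fun u hu => ⟨hsq u hu, mem_C.1 (hUC hu)⟩, hchar, hfix, ?_, ?_⟩
  · intro g hg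
    obtain ⟨⟨⟨u, hu⟩, ⟨p, hp⟩⟩, hgp⟩ := hsurj g (mem_C.2 hg)
    have hb : Function.Bijective (fun a : U × (P : Subgroup G) =>
        (⟨(a.1 : G) * a.2, mul_mem (hUC a.1.2) (hy.sylow_le P hxP a.2.2)⟩ : C x)) :=
      (Nat.bijective_iff_injective_and_card _).2 ⟨fun a b hab => by
        have he : (a.1 : G) * a.2 = b.1 * b.2 := congrArg Subtype.val hab
        have h1 : (b.1 : G)⁻¹ * a.1 = b.2 * (a.2 : G)⁻¹ := by
          calc (b.1 : G)⁻¹ * a.1 = (b.1 : G)⁻¹ * (a.1 * a.2) * (a.2 : G)⁻¹ := by group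
            _ = (b.1 : G)⁻¹ * (b.1 * b.2) * (a.2 : G)⁻¹ := by rw [he]
            _ = _ := by group
        have h2 := hUP _ (mul_mem (inv_mem b.1.2) a.1.2) (h1 ▸ mul_mem b.2.2 (inv_mem a.2.2))
        have h3 := inv_mul_eq_one.1 h2
        rw [h3, mul_right_inj] at he
        exact Prod.ext (Subtype.ext h3.symm) (Subtype.ext he), by
        rw [Nat.card_prod, hUc, hy.card_three P, hC]⟩
    obtain ⟨a, ha⟩ := hb.2 ⟨g, mem_C.2 hg⟩
    exact ⟨a.1, a.1.2, P, hxP, hyP, a.2, a.2.2, (congrArg Subtype.val ha).symm⟩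
  · intro u hu hu1 v hv hv1
    have hj : ∀ j : ℕ, y ^ j * u * (y ^ j)⁻¹ ∈ U := by
      intro j
      induction j with
      | zero => simpa using hu
      | succ n ih =>
        have := hynorm _ ih
        rwa [pow_succ', mul_inv_rev, show y * y ^ n * u * ((y ^ n)⁻¹ * y⁻¹) =
          y * (y ^ n * u * (y ^ n)⁻¹) * y⁻¹ by group]
    let U' : Finset G := Finset.univ.filter (fun z => z ∈ U ∧ z ≠ 1)
    have hU' : U'.card = 3 := by
      have h1 : (Finset.univ.filter (fun z => z ∈ U)).card = 4 := by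
        rw [← hUc, Nat.card_eq_fintype_card, Fintype.card_subtype]
      have h2 : U' = (Finset.univ.filter (fun z => z ∈ U)).erase 1 := by
        ext z; simp [U', and_comm]
      rw [h2, Finset.card_erase_of_mem (by simp), h1]
    let I : Finset G := (Finset.range 3).image (fun j => y ^ j * u * (y ^ j)⁻¹)
    have hIU : I ⊆ U' := by
      intro z hz
      obtain ⟨j, -, rfl⟩ := Finset.mem_image.1 hz
      exact Finset.mem_filter.2 ⟨Finset.mem_univ _, hj j, fun he => hu1 (conj_eq_one_iff.1 he)⟩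
    have hI : I.card = 3 := by
      rw [Finset.card_image_of_injOn, Finset.card_range]
      intro a ha b hb hab
      simp only [Finset.coe_range, Set.mem_Iio] at ha hb
      by_contra hne
      apply hu1
      have key : ∀ a b : ℕ, a < b → b < 3 → y ^ a * u * (y ^ a)⁻¹ = y ^ b * u * (y ^ b)⁻¹ → u = 1 := by
        intro a b hab' hb' he
        apply hfix u hu
        have h1 : y ^ (b - a) * u * (y ^ (b - a))⁻¹ = u := by
          have hb2 : y ^ b = y ^ a * y ^ (b - a) := by rw [← pow_add]; congr 1; omega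
          rw [hb2] at he
          calc y ^ (b - a) * u * (y ^ (b - a))⁻¹
              = (y ^ a)⁻¹ * (y ^ a * y ^ (b - a) * u * (y ^ a * y ^ (b - a))⁻¹) * y ^ a := by group
            _ = (y ^ a)⁻¹ * (y ^ a * u * (y ^ a)⁻¹) * y ^ a := by rw [he]
            _ = u := by group
        have h2 : Commute (y ^ (b - a)) u := mul_inv_eq_iff_eq_mul.1 h1
        have hd : b - a = 1 ∨ b - a = 2 := by omega
        rcases hd with h' | h' <;> rw [h'] at h2
        · rw [pow_one] at h2; exact h2.symm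
        · rw [pow_two] at h2; exact (commute_of_sq h.gy.1 h2).symm
      rcases Nat.lt_or_gt_of_ne hne with h' | h'
      · exact key a b h' hb hab
      · exact key b a h' ha hab.symm
    have := (Finset.eq_of_subset_of_card_le hIU (by rw [hU', hI])).symm ▸
      (show v ∈ U' from Finset.mem_filter.2 ⟨Finset.mem_univ _, hv, hv1⟩)
    obtain ⟨j, hj', hjv⟩ := Finset.mem_image.1 this
    exact ⟨j, Finset.mem_range.1 hj', hjv.symm⟩

/-- The centraliser of an involution of `C(x)` has `±x` as its only elements of order 3. -/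
theorem Hyp.invol_line (hy : Hyp G) {x w : G} (hx : Good x) (hw : orderOf w = 2) (hwx : Commute w x)
    {f : G} (hf : orderOf f = 3) (hwf : Commute w f) : f = x ∨ f = x⁻¹ := by
  haveI : Fact (Nat.Prime 3) := ⟨by norm_num⟩
  obtain ⟨-, P, R, -, hxP, -⟩ := id hx
  obtain ⟨y, -, hp, -, -, -⟩ := hy.orbit hx P hxP
  obtain ⟨U, hUc, hU2, hUchar, hUfix, -, -⟩ := hy.four hp
  have hw2 : w * w = 1 := by rw [← pow_two, ← hw, pow_orderOf_eq_one]
  have hw1 : w ≠ 1 := fun h => by rw [h, orderOf_one] at hw; omega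
  have hwU : w ∈ U := hUchar w hwx (pow_four_of_sq hw2)
  have hcommU : ∀ u ∈ U, Commute w u := fun u hu => by
    have e : ∀ z ∈ U, z⁻¹ = z := fun z hz => inv_eq_of_mul_eq_one_right (hU2 z hz).1
    show w * u = u * w
    rw [← e _ (U.mul_mem hwU hu), mul_inv_rev, e u hu, e w hwU]
  have hconjU : y * w * y⁻¹ ∈ U := by
    refine hUchar _ ?_ (by rw [conj_pow, pow_four_of_sq hw2]; simp)
    exact (hp.comm.symm.mul_left hwx).mul_left hp.comm.symm.inv_left
  have hne : y * w * y⁻¹ ≠ w := fun h =>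
    hw1 (hUfix w hwU (mul_inv_eq_iff_eq_mul.1 h : y * w = w * y).symm)
  obtain ⟨hle, hdvd⟩ := hy.card_C hw1
  have h8 := hy.eight_dvd hw
  have h3 : 3 ∣ Nat.card (C w) := hx.1 ▸ (C w).orderOf_dvd_natCard (mem_C.2 hwx.symm)
  have h5 : ¬ 5 ∣ Nat.card (C w) := by
    intro h
    obtain ⟨r, hrC, hr⟩ := exists_orderOf (by norm_num) _ h
    exact hne (hy.five_invol hw hr (mem_C.1 hrC).symm (hcommU _ hconjU))
  have h9 : ¬ 9 ∣ Nat.card (C w) := by
    intro h
    obtain ⟨K, hK⟩ := Sylow.exists_subgroup_card_pow_prime (G := C w) 3 (n := 2) (by simpa using h)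
    have hK9 : Nat.card (K.map (C w).subtype) = 9 := by
      rw [Subgroup.card_map_of_injective (C w).subtype_injective, hK]; norm_num
    obtain ⟨Q, hQ⟩ := (IsPGroup.of_card (G := (K.map (C w).subtype)) (p := 3) (n := 2)
      (by rw [hK9]; norm_num)).exists_le_sylow
    have heq := Subgroup.eq_of_le_of_card_ge hQ (by rw [hK9, hy.card_three Q])
    refine hw1 (hy.not_invol_mem Q hw2 (hy.self_cent Q fun p hp => ?_))
    rw [← heq] at hp
    exact (mem_C.1 (Subgroup.map_subtype_le _ hp)).symm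
  have h24 : Nat.card (C w) = 24 := by
    have hmem : Nat.card (C w) ∈ (Nat.divisors 2520).filter
        (fun d => d ≤ 315 ∧ 8 ∣ d ∧ 3 ∣ d ∧ ¬ 7 ∣ d ∧ ¬ 5 ∣ d ∧ ¬ 9 ∣ d) := by
      simp only [Finset.mem_filter, Nat.mem_divisors]
      exact ⟨⟨hdvd, by norm_num⟩, hle, h8, h3, hy.not_seven_dvd (by rw [hw]; norm_num), h5, h9⟩
    rwa [show (Nat.divisors 2520).filter
        (fun d => d ≤ 315 ∧ 8 ∣ d ∧ 3 ∣ d ∧ ¬ 7 ∣ d ∧ ¬ 5 ∣ d ∧ ¬ 9 ∣ d) = {24} by
      decide +kernel, Finset.mem_singleton] at hmem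
  set H := C w ⊓ C x with hH
  have h12 : 12 ∣ Nat.card H := by
    have ha : 4 ∣ Nat.card H := hUc ▸ Subgroup.card_dvd_of_le (le_inf (fun u hu => mem_C.2 (hcommU u hu).symm)
      (fun u hu => mem_C.2 (hU2 u hu).2))
    have hb : 3 ∣ Nat.card H :=
      hx.1 ▸ H.orderOf_dvd_natCard ⟨mem_C.2 hwx.symm, mem_C.2 (Commute.refl x)⟩
    exact Nat.Coprime.mul_dvd_of_dvd_of_dvd (by norm_num : Nat.Coprime 4 3) ha hb
  have hfx : Commute f x := by
    obtain ⟨j, hj⟩ := h12
    have hd : Nat.card H ∣ 24 := h24 ▸ Subgroup.card_dvd_of_le (inf_le_left : H ≤ C w)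
    have := Nat.le_of_dvd (by norm_num) hd
    have hidx := (H.subgroupOf (C w)).index_mul_card
    rw [h24, Nat.card_congr (Subgroup.subgroupOfEquivOfLe (inf_le_left : H ≤ C w)).toEquiv, hj] at hidx
    have hi : (H.subgroupOf (C w)).index = 1 ∨ (H.subgroupOf (C w)).index = 2 := by
      have hj0 : 0 < Nat.card H := Nat.card_pos
      have hj2 : j = 1 ∨ j = 2 := by omega
      rcases hj2 with rfl | rfl <;> omega
    rcases hi with hi | hi
    · have := Subgroup.index_eq_one.1 hi ▸ Subgroup.mem_top (⟨f, mem_C.2 hwf.symm⟩ : C w)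
      exact mem_C.1 (this : f ∈ H).2
    · have := Subgroup.mul_self_mem_of_index_two hi (⟨f, mem_C.2 hwf.symm⟩ : C w)
      exact commute_of_sq hf (mem_C.1 (this : f * f ∈ H).2)
  have hle' : Subgroup.zpowers f ≤ Subgroup.normalizer (Subgroup.zpowers x : Set G) := by
    rw [Subgroup.zpowers_le, Subgroup.mem_normalizer_iff_map_conj_eq, MonoidHom.map_zpowers]
    congr 1
    exact mul_inv_eq_iff_eq_mul.2 hfx.eq
  have hpg := (IsPGroup.of_card (G := Subgroup.zpowers x) (p := 3) (n := 1)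
    (by rw [Nat.card_zpowers, hx.1, pow_one])).to_sup_of_normal_left'
    (IsPGroup.of_card (G := Subgroup.zpowers f) (p := 3) (n := 1)
      (by rw [Nat.card_zpowers, hf, pow_one])) hle'
  obtain ⟨n, hn⟩ := hpg.exists_card_eq
  have hsub : Nat.card ↥(Subgroup.zpowers x ⊔ Subgroup.zpowers f) ∣ 24 := h24 ▸ Subgroup.card_dvd_of_le
    (sup_le (Subgroup.zpowers_le.2 (mem_C.2 hwx.symm)) (Subgroup.zpowers_le.2 (mem_C.2 hwf.symm)))
  rw [hn] at hsub
  have hn1 : n ≤ 1 := by
    by_contra hn1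
    have h9' : 3 ^ 2 ∣ 24 := (pow_dvd_pow 3 (by omega)).trans hsub
    norm_num at h9'
  have heq : Subgroup.zpowers x = Subgroup.zpowers x ⊔ Subgroup.zpowers f :=
    Subgroup.eq_of_le_of_card_ge le_sup_left (by
      rw [hn, Nat.card_zpowers, hx.1]
      exact (Nat.pow_le_pow_right (by norm_num) hn1).trans (le_of_eq (pow_one 3)))
  rcases mem_zpowers_three hx.1 (heq ▸ Subgroup.mem_sup_right (Subgroup.mem_zpowers f)) with h | h | h
  · exact absurd h (sq_eq_inv_of_three hf).2.2.2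
  · exact Or.inl h
  · exact Or.inr h

/-- All involutions are conjugate. -/
theorem Hyp.one_class (hy : Hyp G) {t t' : G} (ht : orderOf t = 2) (ht' : orderOf t' = 2) :
    IsConj t t' := by
  haveI : Fact (Nat.Prime 2) := ⟨Nat.prime_two⟩
  obtain ⟨x, hx⟩ := hy.exists_good
  obtain ⟨-, P, R, -, hxP, -⟩ := id hx
  obtain ⟨y, hyP, hp, ⟨h, hh, hyh⟩, ⟨k, hk, hkN, hkx⟩, horb⟩ := hy.orbit hx P hxP
  obtain ⟨U, hUc, hU2, hUchar, hUfix, -, -⟩ := hy.four hp
  have hk2 : k * k = 1 := by rw [← pow_two, ← hk, pow_orderOf_eq_one]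
  have hki : k⁻¹ = k := inv_eq_of_mul_eq_one_right hk2
  have hkU : ∀ u ∈ U, k * u * k⁻¹ ∈ U := by
    intro u hu
    refine hUchar _ ?_ (by rw [conj_pow, pow_four_of_sq (hU2 u hu).1]; simp)
    have hc : Commute (k * u * k⁻¹) x⁻¹ := by
      rw [← hkx]
      show k * u * k⁻¹ * (k * x * k⁻¹) = k * x * k⁻¹ * (k * u * k⁻¹)
      calc k * u * k⁻¹ * (k * x * k⁻¹) = k * (u * x) * k⁻¹ := by group
        _ = k * (x * u) * k⁻¹ := by rw [(hU2 u hu).2.eq]
        _ = _ := by group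
    exact Commute.inv_right_iff.1 hc
  obtain ⟨u, hu, hku⟩ : ∃ u ∈ U, k * u ≠ u * k := by
    by_contra hcon
    push Not at hcon
    obtain ⟨u, hu, hu1⟩ : ∃ u ∈ U, u ≠ 1 := by
      by_contra hc
      push Not at hc
      have hb : U = ⊥ := (Subgroup.eq_bot_iff_forall U).2 hc
      rw [hb, Subgroup.card_bot] at hUc
      omega
    have hy' := horb (k * h) (mul_mem hkN hh)
    rw [show k * h * x * (k * h)⁻¹ = k * (h * x * h⁻¹) * k⁻¹ by group, ← hyh] at hy'
    have hback : ∀ z, k * y * k⁻¹ = z → y = k * z * k⁻¹ := by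
      rintro z rfl
      rw [hki, show k * (k * y * k) * k = k * k * y * (k * k) by group, hk2]; simp
    rcases hy' with e | e | e | e
    · exact hp.indep ((hback _ e).trans hkx ▸ inv_mem (Subgroup.mem_zpowers x))
    · refine hp.indep ?_
      rw [hback _ e, ← conj_inv, hkx, inv_inv]
      exact Subgroup.mem_zpowers x
    · obtain ⟨V, -, hV2, hVchar, -, -, -⟩ := hy.four hp.symm
      have hkV : k ∈ V := hVchar k (mul_inv_eq_iff_eq_mul.1 e)
        (pow_four_of_sq hk2)
      have hxk : x * k * x⁻¹ ∈ V := hVchar _ ((hp.comm.mul_left (hV2 k hkV).2).mul_left hp.comm.inv_left)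
        (by rw [conj_pow, pow_four_of_sq hk2]; simp)
      have hx2 : x * x ∈ V := by
        have hm := mul_mem hxk (inv_mem hkV)
        rwa [show x * k * x⁻¹ * k⁻¹ = x * (k * x⁻¹ * k⁻¹) by group, ← conj_inv, hkx, inv_inv] at hm
      rw [(sq_eq_inv_of_three hx.1).1] at hx2
      have := (hV2 _ hx2).1
      rw [(sq_eq_inv_of_three hx.1).2.1] at this
      exact hx.one_ne this
    · refine hu1 (hUfix u hu ?_)
      have huy : y * u * y⁻¹ ∈ U := by
        refine hUchar _ ?_ (by rw [conj_pow, pow_four_of_sq (hU2 u hu).1]; simp)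
        exact (hp.comm.symm.mul_left (hU2 u hu).2).mul_left hp.comm.symm.inv_left
      have h1 : k * (y * u * y⁻¹) * k⁻¹ = y * u * y⁻¹ := mul_inv_eq_iff_eq_mul.2 (hcon _ huy)
      have h2 : k * (y * u * y⁻¹) * k⁻¹ = (k * y * k⁻¹) * (k * u * k⁻¹) * (k * y * k⁻¹)⁻¹ := by group
      rw [h2, e, inv_inv, mul_inv_eq_iff_eq_mul.2 (hcon u hu)] at h1
      refine (commute_of_sq hp.gy.1 ?_).symm
      show y * y * u = u * (y * y)
      calc y * y * u = y * (y * u * y⁻¹) * y := by group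
        _ = y * (y⁻¹ * u * y) * y := by rw [h1]
        _ = _ := by group
  have hkn : Subgroup.zpowers k ≤ Subgroup.normalizer (U : Set G) := by
    rw [Subgroup.zpowers_le, Subgroup.mem_normalizer_iff_map_conj_eq]
    refine Subgroup.eq_of_le_of_card_ge (Subgroup.map_le_iff_le_comap.2 fun z hz => hkU z hz) ?_
    rw [Subgroup.card_map_of_injective (MulAut.conj k).injective]
  have hpg := (IsPGroup.of_card (G := U) (p := 2) (n := 2) (by rw [hUc]; norm_num)).to_sup_of_normal_left'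
    (IsPGroup.of_card (G := Subgroup.zpowers k) (p := 2) (n := 1)
      (by rw [Nat.card_zpowers, hk, pow_one])) hkn
  obtain ⟨S, hS⟩ := hpg.exists_le_sylow
  have hS8 : Nat.card (S : Subgroup G) = 8 := by
    rw [sylow_card (p := 2) (k := 3) (m := 315) (by rw [hy.card]; norm_num) (by norm_num) S]; norm_num
  have huS := hS (Subgroup.mem_sup_left hu)
  have hkS := hS (Subgroup.mem_sup_right (Subgroup.mem_zpowers k))
  obtain ⟨g, hgS, hg⟩ : ∃ g ∈ (S : Subgroup G), orderOf g = 4 := by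
    by_contra hcon
    push Not at hcon
    apply hku
    have hd : ∀ g ∈ (S : Subgroup G), orderOf g ∣ 2 ∨ orderOf g = 8 := by
      intro g hg
      have h8 : orderOf g ∣ 8 := hS8 ▸ Subgroup.orderOf_dvd_natCard (S : Subgroup G) hg
      have := hcon g hg
      have hle := Nat.le_of_dvd (by norm_num) h8
      interval_cases hh : orderOf g <;> omega
    by_cases h8 : ∃ g ∈ (S : Subgroup G), orderOf g = 8
    · obtain ⟨g, hgS, hg⟩ := h8
      have hgen : Subgroup.zpowers g = (S : Subgroup G) := Subgroup.eq_of_le_of_card_ge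
        (Subgroup.zpowers_le.2 hgS) (by rw [Nat.card_zpowers, hg, hS8])
      rw [← hgen] at huS hkS
      obtain ⟨i, rfl⟩ := Subgroup.mem_zpowers_iff.1 huS
      obtain ⟨j, rfl⟩ := Subgroup.mem_zpowers_iff.1 hkS
      exact (((Commute.refl g).zpow_left j).zpow_right i).eq
    · push Not at h8
      have e : ∀ z ∈ (S : Subgroup G), z⁻¹ = z := fun z hz => inv_eq_of_mul_eq_one_right (by
        rw [← pow_two]; exact orderOf_dvd_iff_pow_eq_one.1 ((hd z hz).resolve_right (h8 z hz)))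
      rw [← e _ (mul_mem hkS huS), mul_inv_rev, e u huS, e k hkS]
  exact (hy.conj_square hg ht).trans (hy.conj_square hg ht').symm

/-- Elements of order 3 commuting with an involution are good. -/
theorem Hyp.nice_good (hy : Hyp G) {f w : G} (hf : orderOf f = 3) (hw : orderOf w = 2)
    (hc : Commute w f) : Good f := by
  obtain ⟨x, hx⟩ := hy.exists_good
  obtain ⟨hC, -⟩ := hy.good_card hx
  obtain ⟨w₀, hw₀C, hw₀⟩ := exists_orderOf Nat.prime_two (C x) (by rw [hC]; norm_num)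
  obtain ⟨c, hcc⟩ := isConj_iff.1 (hy.one_class hw hw₀)
  have h1 : Commute w₀ (c * f * c⁻¹) := by
    rw [← hcc]
    show c * w * c⁻¹ * (c * f * c⁻¹) = c * f * c⁻¹ * (c * w * c⁻¹)
    calc c * w * c⁻¹ * (c * f * c⁻¹) = c * (w * f) * c⁻¹ := by group
      _ = c * (f * w) * c⁻¹ := by rw [hc.eq]
      _ = _ := by group
  have hg : Good (c * f * c⁻¹) := by
    rcases hy.invol_line hx hw₀ (mem_C.1 hw₀C) (by rw [← hf]; exact (MulAut.conj c).orderOf_eq f) h1
      with h' | h' <;> rw [h']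
    · exact hx
    · exact hx.inv
  have := hg.conj c⁻¹
  rwa [inv_inv, show c⁻¹ * (c * f * c⁻¹) * c = f by group] at this

/-- The good elements of a Sylow subgroup. -/
theorem Hyp.good_cases (hy : Hyp G) {x y : G} (hp : Pair x y) (P : Sylow 3 G)
    (hxP : x ∈ (P : Subgroup G)) (hyP : y ∈ (P : Subgroup G)) {f : G} (hf : Good f)
    (hfP : f ∈ (P : Subgroup G)) : f = x ∨ f = x⁻¹ ∨ f = y ∨ f = y⁻¹ := by
  haveI : Fact (Nat.Prime 3) := ⟨by norm_num⟩
  obtain ⟨y₀, -, hp₀, -, ⟨k, hk, hkN, hkx⟩, horb⟩ := hy.orbit hp.gx P hxP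
  -- every good element of `P` is a conjugate of `x` in `N(P)`
  have key : ∀ f : G, Good f → f ∈ (P : Subgroup G) →
      f = x ∨ f = x⁻¹ ∨ f = y₀ ∨ f = y₀⁻¹ := by
    intro f hf hfP
    obtain ⟨hCf, -⟩ := hy.good_card hf
    obtain ⟨hCx, -⟩ := hy.good_card hp.gx
    obtain ⟨w, hwC, hw⟩ := exists_orderOf Nat.prime_two (C f) (by rw [hCf]; norm_num)
    obtain ⟨w₀, hw₀C, hw₀⟩ := exists_orderOf Nat.prime_two (C x) (by rw [hCx]; norm_num)
    obtain ⟨c, hcc⟩ := isConj_iff.1 (hy.one_class hw₀ hw)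
    have h1 : Commute w (c * x * c⁻¹) := by
      rw [← hcc]
      show c * w₀ * c⁻¹ * (c * x * c⁻¹) = c * x * c⁻¹ * (c * w₀ * c⁻¹)
      calc c * w₀ * c⁻¹ * (c * x * c⁻¹) = c * (w₀ * x) * c⁻¹ := by group
        _ = c * (x * w₀) * c⁻¹ := by rw [(mem_C.1 hw₀C).eq]
        _ = _ := by group
    obtain ⟨g, hg⟩ : ∃ g : G, g * x * g⁻¹ = f := by
      rcases hy.invol_line hf hw (mem_C.1 hwC)
        (by rw [← hp.gx.1]; exact (MulAut.conj c).orderOf_eq x) h1 with h' | h'
      · exact ⟨c, h'⟩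
      · refine ⟨c * k, ?_⟩
        rw [show c * k * x * (c * k)⁻¹ = c * (k * x * k⁻¹) * c⁻¹ by group, hkx, ← conj_inv, h', inv_inv]
    have hle1 : (P : Subgroup G) ≤ C f := hy.sylow_le P hfP
    have hfg : f ∈ ((g • P : Sylow 3 G) : Subgroup G) := by
      rw [Sylow.coe_subgroup_smul, Subgroup.mem_pointwise_smul_iff_inv_smul_mem, ← hg]
      simpa [mul_assoc] using hxP
    have hle2 : ((g • P : Sylow 3 G) : Subgroup G) ≤ C f := hy.sylow_le (g • P) hfg
    obtain ⟨c', hc'⟩ := MulAction.exists_smul_eq (C f) ((g • P).subtype hle2) (P.subtype hle1)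
    rw [Sylow.smul_subtype] at hc'
    have h2 : ((c' : G) * g) • P = P := by rw [mul_smul]; exact Sylow.subtype_injective hc'
    have h4 := horb _ (Sylow.smul_eq_iff_mem_normalizer.1 h2)
    have h5 : (c' : G) * g * x * ((c' : G) * g)⁻¹ = f := by
      rw [show (c' : G) * g * x * ((c' : G) * g)⁻¹ = c' * (g * x * g⁻¹) * (c' : G)⁻¹ by group, hg]
      exact mul_inv_eq_iff_eq_mul.2 (mem_C.1 c'.2).eq
    rwa [h5] at h4
  have hy0 : y = y₀ ∨ y = y₀⁻¹ := by
    rcases key y hp.gy hyP with h | h | h | h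
    · exact absurd (h ▸ Subgroup.mem_zpowers x) hp.indep
    · exact absurd (h ▸ inv_mem (Subgroup.mem_zpowers x)) hp.indep
    · exact Or.inl h
    · exact Or.inr h
  rcases key f hf hfP with h | h | h | h <;> rcases hy0 with e | e <;> subst e <;> simp [h]

end Cfsg.Agent.Lib.Order2520
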