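import Cfsg.Agent.Lib.Order2520.Gen

/-!
# A simple group of order 2520 has a subgroup of index at most 7
-/

namespace Cfsg.Agent.Lib.Order2520

open Cfsg.Agent.Lib.SylowCounting

set_option linter.style.haveILetI false
set_option linter.unusedSectionVars false

variable {G : Type*} [Group G] [Finite G] [IsSimpleGroup G]

theorem Hyp.card_Pm (hy : Hyp G) {f : G} (hf : Good f) : 72 ≤ Nat.card (Pm f) := by
  obtain ⟨-, P, R, -, hfP, -⟩ := id hf
  obtain ⟨-, -, -, -, ⟨k, -, -, hkf⟩, -⟩ := hy.orbit hf P hfP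
  obtain ⟨hC, -⟩ := hy.good_card hf
  obtain ⟨i, hi⟩ := Subgroup.card_dvd_of_le (C_le_Pm f)
  rw [hC] at hi
  have hi1 : i ≠ 1 := fun h => by
    have heq := Subgroup.eq_of_le_of_card_ge (C_le_Pm f) (by rw [hi, h, hC])
    have hk : k ∈ C f := heq.symm ▸ (Or.inr hkf : k ∈ Pm f)
    rw [mul_inv_eq_iff_eq_mul.2 (mem_C.1 hk).eq] at hkf
    exact (sq_eq_inv_of_three hf.1).2.2.1 hkf.symm
  have : 0 < Nat.card (Pm f) := Nat.card_pos
  have : i ≠ 0 := by rintro rfl; omega
  omega

/-- No neighbourhood of radius two is closed. -/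
theorem Hyp.not_closed (hy : Hyp G) {x y v : G} (hp : Pair x y) (hv : orderOf v = 2) (hvy : Commute v y)
    {v' : G} (hv' : orderOf v' = 2) (hv'z : Commute v' (v * x⁻¹ * v⁻¹))
    (he : ∃ c, Commute c x ∧ ∃ s, (s = v * x⁻¹ * v⁻¹ ∨ s = (v * x⁻¹ * v⁻¹)⁻¹) ∧
      v' * y * v'⁻¹ = c * s * c⁻¹) : False := by
  classical
  obtain ⟨hpz, -, -, -⟩ := hy.zed hp hv hvy
  set z := v * x⁻¹ * v⁻¹ with hz
  let B : Set G := {f | (f = x ∨ f = x⁻¹) ∨ ∃ c, Commute c x ∧
    (f = c * y * c⁻¹ ∨ f = c * y⁻¹ * c⁻¹ ∨ f = c * z * c⁻¹ ∨ f = c * z⁻¹ * c⁻¹)}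
  have hBconj : ∀ g, Commute g x → ∀ f ∈ B, g * f * g⁻¹ ∈ B := by
    intro g hg f hf
    rcases hf with (rfl | rfl) | ⟨c, hc, h⟩
    · exact Or.inl (Or.inl (mul_inv_eq_iff_eq_mul.2 hg.eq))
    · exact Or.inl (Or.inr (mul_inv_eq_iff_eq_mul.2 hg.inv_right.eq))
    · refine Or.inr ⟨g * c, hg.mul_left hc, ?_⟩
      rcases h with h | h | h | h <;> subst h
      · exact Or.inl (by group)
      · exact Or.inr (Or.inl (by group))
      · exact Or.inr (Or.inr (Or.inl (by group)))
      · exact Or.inr (Or.inr (Or.inr (by group)))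
  have hBinv : ∀ f ∈ B, f⁻¹ ∈ B := by
    intro f hf
    rcases hf with (rfl | rfl) | ⟨c, hc, h⟩
    · exact Or.inl (Or.inr rfl)
    · exact Or.inl (Or.inl (inv_inv x))
    · refine Or.inr ⟨c, hc, ?_⟩
      rcases h with h | h | h | h <;> subst h <;> rw [conj_inv]
      · exact Or.inr (Or.inl rfl)
      · exact Or.inl (by rw [inv_inv])
      · exact Or.inr (Or.inr (Or.inr rfl))
      · exact Or.inr (Or.inr (Or.inl (by rw [inv_inv])))
  have hxB : x ∈ B := Or.inl (Or.inl rfl)
  have hyB : y ∈ B := Or.inr ⟨1, Commute.one_left x, Or.inl (by simp)⟩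
  have hzB : z ∈ B := Or.inr ⟨1, Commute.one_left x, Or.inr (Or.inr (Or.inl (by simp)))⟩
  have hvz : v * x * v⁻¹ = z⁻¹ := by rw [hz, conj_inv, inv_inv]
  obtain ⟨U, -, -, -, -, hdec, -⟩ := hy.four hp
  -- neighbours of `x`, `y`, `z`
  have hnx : ∀ f, Good f → Commute f x → f ∈ B := by
    intro f hf hfx
    obtain ⟨u, hu, hu2⟩ : ∃ u, Commute u x ∧ orderOf u = 2 := by
      obtain ⟨u, huC, hu⟩ := exists_orderOf Nat.prime_two (C x) (by rw [(hy.good_card hp.gx).1]; norm_num)
      exact ⟨u, mem_C.1 huC, hu⟩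
    rcases hy.nbr hp.symm hu2 hu hf hfx with h | h | ⟨s, hs, h⟩
    · exact h ▸ hxB
    · exact h ▸ hBinv x hxB
    · have hsB : s ∈ B := by rcases hs with rfl | rfl; exacts [hyB, hBinv y hyB]
      rcases h with rfl | ⟨j, -, rfl⟩
      · exact hsB
      · exact hBconj _ ((hp.comm.symm.pow_left j).mul_left hu) s hsB
  have hny : ∀ f, Good f → Commute f y → f ∈ B := by
    intro f hf hfy
    rcases hy.nbr hp hv hvy hf hfy with h | h | ⟨s, hs, h⟩
    · exact h ▸ hyB
    · exact h ▸ hBinv y hyB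
    · rcases h with rfl | ⟨j, -, rfl⟩
      · rcases hs with rfl | rfl; exacts [hxB, hBinv x hxB]
      · have hsv : v * s * v⁻¹ ∈ B := by
          rcases hs with rfl | rfl
          · rw [hvz]; exact hBinv z hzB
          · exact hzB
        rw [show x ^ j * v * s * (x ^ j * v)⁻¹ = x ^ j * (v * s * v⁻¹) * (x ^ j)⁻¹ by group]
        exact hBconj _ ((Commute.refl x).pow_left j) _ hsv
  have hnz : ∀ f, Good f → Commute f z → f ∈ B := by
    intro f hf hfz
    rcases hy.nbr hpz hv' hv'z hf hfz with h | h | ⟨s, hs, h⟩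
    · exact h ▸ hzB
    · exact h ▸ hBinv z hzB
    · rcases h with rfl | ⟨j, -, rfl⟩
      · rcases hs with rfl | rfl; exacts [hyB, hBinv y hyB]
      · have heB : v' * y * v'⁻¹ ∈ B := by
          obtain ⟨c, hc, t, ht, hct⟩ := he
          rw [hct]
          exact hBconj c hc t (by rcases ht with rfl | rfl; exacts [hzB, hBinv z hzB])
        have hsv : v' * s * v'⁻¹ ∈ B := by
          rcases hs with rfl | rfl
          · exact heB
          · rw [← conj_inv]; exact hBinv _ heB
        rw [show y ^ j * v' * s * (y ^ j * v')⁻¹ = y ^ j * (v' * s * v'⁻¹) * (y ^ j)⁻¹ by group]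
        exact hBconj _ (hp.comm.symm.pow_left j) _ hsv
  have hnbr : ∀ a ∈ B, ∀ b, Good b → Commute b a → b ∈ B := by
    intro a ha b hb hba
    rcases ha with (rfl | rfl) | ⟨c, hc, h⟩
    · exact hnx b hb hba
    · exact hnx b hb (Commute.inv_right_iff.1 hba)
    · have hb' : Good (c⁻¹ * b * c) := by
        have := hb.conj c⁻¹
        rwa [inv_inv] at this
      have hback : c⁻¹ * b * c ∈ B → b ∈ B := fun hm => by
        have := hBconj c hc _ hm
        rwa [show c * (c⁻¹ * b * c) * c⁻¹ = b by group] at this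
      have hcom : ∀ t, a = c * t * c⁻¹ → Commute (c⁻¹ * b * c) t := by
        intro t ht
        show c⁻¹ * b * c * t = t * (c⁻¹ * b * c)
        calc c⁻¹ * b * c * t = c⁻¹ * (b * a) * c := by rw [ht]; group
          _ = c⁻¹ * (a * b) * c := by rw [hba.eq]
          _ = _ := by rw [ht]; group
      rcases h with h | h | h | h
      · exact hback (hny _ hb' (hcom _ h))
      · exact hback (hny _ hb' (Commute.inv_right_iff.1 (hcom _ h)))
      · exact hback (hnz _ hb' (hcom _ h))
      · exact hback (hnz _ hb' (Commute.inv_right_iff.1 (hcom _ h)))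
  have hgood : ∀ f ∈ B, Good f := by
    intro f hf
    rcases hf with (rfl | rfl) | ⟨c, -, h⟩
    · exact hp.gx
    · exact hp.gx.inv
    · rcases h with h | h | h | h <;> subst h
      exacts [hp.gy.conj c, hp.gy.inv.conj c, hpz.gy.conj c, hpz.gy.inv.conj c]
  have hcv : ∀ a b : G, Commute a b → Commute (v * a * v⁻¹) (v * b * v⁻¹) := fun a b h => by
    show v * a * v⁻¹ * (v * b * v⁻¹) = v * b * v⁻¹ * (v * a * v⁻¹)
    rw [conj_mul, conj_mul, h.eq]
  have hvB : ∀ f ∈ B, v * f * v⁻¹ ∈ B := by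
    intro f hf
    have hg : Good (v * f * v⁻¹) := (hgood f hf).conj v
    have hzi : v * x * v⁻¹ ∈ B := hvz ▸ hBinv z hzB
    have hzi' : v * x⁻¹ * v⁻¹ ∈ B := hzB
    rcases hf with (rfl | rfl) | ⟨c, hc, h⟩
    · exact hzi
    · exact hzi'
    · -- conjugates of `y` commute with `x`
      have hcy : ∀ t, (t = y ∨ t = y⁻¹) → v * (c * t * c⁻¹) * v⁻¹ ∈ B := by
        intro t ht
        have hgt : Good (c * t * c⁻¹) := by
          rcases ht with rfl | rfl; exacts [hp.gy.conj c, hp.gy.inv.conj c]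
        refine hnbr _ hzi _ (hgt.conj v) (hcv _ _ ?_)
        have htx : Commute t x := by
          rcases ht with rfl | rfl; exacts [hp.comm.symm, hp.comm.symm.inv_left]
        exact ((hc.mul_left htx).mul_left hc.inv_left)
      have hcz : ∀ t, (t = z ∨ t = z⁻¹) → v * (c * t * c⁻¹) * v⁻¹ ∈ B := by
        intro t ht
        have hgt : Good (c * t * c⁻¹) := by
          rcases ht with rfl | rfl; exacts [hpz.gy.conj c, hpz.gy.inv.conj c]
        refine hnbr _ (hcy y (Or.inl rfl)) _ (hgt.conj v) (hcv _ _ ?_)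
        have hty : Commute t y := by
          rcases ht with rfl | rfl; exacts [hpz.comm.symm, hpz.comm.symm.inv_left]
        show c * t * c⁻¹ * (c * y * c⁻¹) = c * y * c⁻¹ * (c * t * c⁻¹)
        rw [conj_mul, conj_mul, hty.eq]
      rcases h with h | h | h | h <;> subst h
      exacts [hcy y (Or.inl rfl), hcy _ (Or.inr rfl), hcz z (Or.inl rfl), hcz _ (Or.inr rfl)]
  -- the stabiliser of `B`
  let M : Subgroup G :=
    { carrier := {g | ∀ f, f ∈ B ↔ g * f * g⁻¹ ∈ B}
      one_mem' := fun f => by simp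
      mul_mem' := fun {a b} ha hb f => by
        rw [show a * b * f * (a * b)⁻¹ = a * (b * f * b⁻¹) * a⁻¹ by group, ← ha, ← hb]
      inv_mem' := fun {a} ha f => by
        rw [ha (a⁻¹ * f * a⁻¹⁻¹), show a * (a⁻¹ * f * a⁻¹⁻¹) * a⁻¹ = f by group] }
  have hCM : C x ≤ M := fun g hg f => by
    refine ⟨hBconj g (mem_C.1 hg) f, fun h => ?_⟩
    have := hBconj g⁻¹ (mem_C.1 hg).inv_left _ h
    rwa [show g⁻¹ * (g * f * g⁻¹) * g⁻¹⁻¹ = f by group] at this
  have hvM : v ∈ M := fun f => by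
    refine ⟨hvB f, fun h => ?_⟩
    have h' := hvB _ h
    have hv2 : v * v = 1 := by rw [← pow_two, ← hv, pow_orderOf_eq_one]
    rwa [show v * (v * f * v⁻¹) * v⁻¹ = v * v * f * (v * v)⁻¹ by group, hv2, one_mul, inv_one, mul_one] at h'
  have hMtop := hy.gen_top hp hv hvy M hCM hvM
  have hclass : ∀ g : G, g * x * g⁻¹ ∈ B := fun g => ((hMtop ▸ Subgroup.mem_top g : g ∈ M) x).1 hxB
  -- counting
  haveI : Fintype G := Fintype.ofFinite G
  obtain ⟨U, hUc, hU2, hUchar, hUfix, hdec, htrans⟩ := hy.four hp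
  let UF : Finset G := Finset.univ.filter (· ∈ U)
  have hUF : UF.card = 4 := by
    rw [← hUc, Nat.card_eq_fintype_card, Fintype.card_subtype]
  let BF : Finset G := ({x, x⁻¹} : Finset G) ∪
    ((UF ×ˢ ({y, y⁻¹} : Finset G)).image (fun q => q.1 * q.2 * q.1⁻¹) ∪
      (((UF ×ˢ Finset.range 3) ×ˢ ({z, z⁻¹} : Finset G)).image
        (fun q => q.1.1 * x ^ q.1.2 * q.2 * (q.1.1 * x ^ q.1.2)⁻¹)))
  have hBF : ∀ f ∈ B, f ∈ BF := by
    intro f hf
    simp only [BF, Finset.mem_union, Finset.mem_insert, Finset.mem_singleton, Finset.mem_image,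
      Finset.mem_product, Finset.mem_range, UF, Finset.mem_filter, Finset.mem_univ, true_and]
    rcases hf with h | ⟨c, hc, h⟩
    · exact Or.inl h
    obtain ⟨u, hu, P, hxP, hyP, p, hpP, rfl⟩ := hdec c hc
    have hpy : ∀ t, (t = y ∨ t = y⁻¹) → u * p * t * (u * p)⁻¹ = u * t * u⁻¹ := by
      intro t ht
      have hpt : Commute p t := by
        rcases ht with rfl | rfl
        exacts [hy.comm_three P hpP hyP, hy.comm_three P hpP (inv_mem hyP)]
      calc u * p * t * (u * p)⁻¹ = u * (p * t) * p⁻¹ * u⁻¹ := by group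
        _ = u * (t * p) * p⁻¹ * u⁻¹ := by rw [hpt.eq]
        _ = _ := by group
    have hpz' : ∀ t, (t = z ∨ t = z⁻¹) → ∃ j < 3, u * p * t * (u * p)⁻¹ = u * x ^ j * t * (u * x ^ j)⁻¹ := by
      intro t ht
      have hyt : ∀ n : ℤ, Commute (y ^ n) t := fun n => by
        rcases ht with rfl | rfl
        exacts [hpz.comm.zpow_left n, hpz.comm.inv_right.zpow_left n]
      let S : Subgroup G :=
        { carrier := {q | ∃ (j : ℤ) (n : ℤ), q = x ^ j * y ^ n}
          one_mem' := ⟨0, 0, by simp⟩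
          mul_mem' := by
            rintro _ _ ⟨j, n, rfl⟩ ⟨j', n', rfl⟩
            refine ⟨j + j', n + n', ?_⟩
            rw [zpow_add, zpow_add]
            have hc' := (hp.comm.symm.zpow_left n).zpow_right j'
            calc x ^ j * y ^ n * (x ^ j' * y ^ n') = x ^ j * (y ^ n * x ^ j') * y ^ n' := by group
              _ = x ^ j * (x ^ j' * y ^ n) * y ^ n' := by rw [hc'.eq]
              _ = _ := by group
          inv_mem' := by
            rintro _ ⟨j, n, rfl⟩
            refine ⟨-j, -n, ?_⟩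
            rw [mul_inv_rev, ← zpow_neg, ← zpow_neg]
            exact ((hp.comm.symm.zpow_left (-n)).zpow_right (-j)).eq }
      have hSP : S ⊓ (P : Subgroup G) = (P : Subgroup G) := hy.eq_P P inf_le_right hp.gx.1
        ⟨⟨1, 0, by simp⟩, hxP⟩ ⟨⟨0, 1, by simp⟩, hyP⟩ hp.indep
      obtain ⟨⟨j, n, rfl⟩, -⟩ := (hSP.symm ▸ hpP : p ∈ S ⊓ (P : Subgroup G))
      refine ⟨(j % 3).toNat, by omega, ?_⟩
      have hxj : x ^ j = x ^ (j % 3).toNat := by
        rw [← zpow_natCast, Int.toNat_of_nonneg (Int.emod_nonneg _ (by norm_num)), ← zpow_mod_orderOf, hp.gx.1]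
        norm_num
      rw [← hxj]
      calc u * (x ^ j * y ^ n) * t * (u * (x ^ j * y ^ n))⁻¹
          = u * x ^ j * (y ^ n * t) * (y ^ n)⁻¹ * (u * x ^ j)⁻¹ := by group
        _ = u * x ^ j * (t * y ^ n) * (y ^ n)⁻¹ * (u * x ^ j)⁻¹ := by rw [(hyt n).eq]
        _ = _ := by group
    rcases h with h | h | h | h
    · exact Or.inr (Or.inl ⟨(u, y), ⟨hu, Or.inl rfl⟩, by rw [h, hpy y (Or.inl rfl)]⟩)
    · exact Or.inr (Or.inl ⟨(u, y⁻¹), ⟨hu, Or.inr rfl⟩, by rw [h, hpy _ (Or.inr rfl)]⟩)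
    · obtain ⟨j, hj, e⟩ := hpz' z (Or.inl rfl)
      exact Or.inr (Or.inr ⟨((u, j), z), ⟨⟨hu, hj⟩, Or.inl rfl⟩, by rw [h, e]⟩)
    · obtain ⟨j, hj, e⟩ := hpz' _ (Or.inr rfl)
      exact Or.inr (Or.inr ⟨((u, j), z⁻¹), ⟨⟨hu, hj⟩, Or.inr rfl⟩, by rw [h, e]⟩)
  have hcard : BF.card ≤ 34 := by
    refine (Finset.card_union_le _ _).trans ?_
    refine (Nat.add_le_add Finset.card_le_two ((Finset.card_union_le _ _).trans
      (Nat.add_le_add Finset.card_image_le Finset.card_image_le))).trans ?_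
    simp only [Finset.card_product, hUF, Finset.card_range]
    have h1 : ({y, y⁻¹} : Finset G).card ≤ 2 := Finset.card_le_two
    have h2 : ({z, z⁻¹} : Finset G).card ≤ 2 := Finset.card_le_two
    omega
  have hcl := card_conjClass_mul_card_centralizer x
  rw [hy.card] at hcl
  have h70 : Nat.card {g : G // IsConj x g} ≤ BF.card := by
    rw [← Nat.card_eq_finsetCard]
    refine Nat.card_le_card_of_injective (fun g => ⟨g.1, hBF _ ?_⟩)
      (fun a b h => Subtype.ext (congrArg (fun q : BF => (q : G)) h))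
    obtain ⟨c, hc⟩ := isConj_iff.1 g.2
    exact hc ▸ hclass c
  change _ * Nat.card (C x) = _ at hcl
  rw [(hy.good_card hp.gx).1] at hcl
  omega

/-- Four generators of the wanted subgroup cannot exist. -/
theorem Hyp.not_four (hy : Hyp G) {x y v w : G} (hp : Pair x y) (hv : orderOf v = 2) (hvy : Commute v y)
    (hw : orderOf w = 2) (hwx : Commute w x)
    (hrel : (v * x⁻¹ * v⁻¹ * (w * (v * x⁻¹ * v⁻¹) * w⁻¹)) *
      (v * x⁻¹ * v⁻¹ * (w * (v * x⁻¹ * v⁻¹) * w⁻¹)) = 1) : False := by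
  classical
  obtain ⟨hpz, hxz, hncz, -⟩ := hy.zed hp hv hvy
  set z := v * x⁻¹ * v⁻¹ with hz
  obtain ⟨U, -, hU2, hUchar, hUfix, hdec, htrans⟩ := hy.four hp
  have hw2 : w * w = 1 := by rw [← pow_two, ← hw, pow_orderOf_eq_one]
  have hw1 : w ≠ 1 := fun h => by rw [h, orderOf_one] at hw; omega
  have hwU : w ∈ U := hUchar w hwx (pow_four_of_sq hw2)
  set w' := y * w * y⁻¹ with hw'
  have hw'x : Commute w' x := (hp.comm.symm.mul_left hwx).mul_left hp.comm.symm.inv_left
  have hw'U : w' ∈ U := hUchar w' hw'x (by rw [hw', conj_pow, pow_four_of_sq hw2]; simp)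
  have hw'w : w' ≠ w := fun h => hw1 (hUfix w hwU (mul_inv_eq_iff_eq_mul.1 h : y * w = w * y).symm)
  have hw'1 : w' ≠ 1 := fun h => hw1 (conj_eq_one_iff.1 h)
  have hyz : Commute y z := hpz.comm
  set a := w * z * w⁻¹ with ha
  set b := w' * z * w'⁻¹ with hb
  have hzb : (z * b) * (z * b) = 1 := by
    have : z * b = y * (z * a) * y⁻¹ := by
      rw [hb, hw', ha]
      calc z * (y * w * y⁻¹ * z * (y * w * y⁻¹)⁻¹) = z * y * w * (y⁻¹ * z) * y * w⁻¹ * y⁻¹ := by group
        _ = z * y * w * (z * y⁻¹) * y * w⁻¹ * y⁻¹ := by rw [(hyz.inv_left).eq]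
        _ = z * y * (w * z * w⁻¹) * y⁻¹ := by group
        _ = y * z * (w * z * w⁻¹) * y⁻¹ := by rw [hyz.eq]
        _ = _ := by group
    rw [this, conj_mul, hrel]; simp
  have hxconj : ∀ u : G, Commute u x → (x * (u * z * u⁻¹)) * (x * (u * z * u⁻¹)) = 1 := by
    intro u hu
    have : x * (u * z * u⁻¹) = u * (x * z) * u⁻¹ := by
      calc x * (u * z * u⁻¹) = (x * u) * z * u⁻¹ := by group
        _ = (u * x) * z * u⁻¹ := by rw [hu.eq]
        _ = _ := by group
    rw [this, conj_mul, hxz]; simp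
  -- the third involution of the four group
  have hw3 : w * w' = y * y * w * (y * y)⁻¹ ∨ w * w' = y * w * y⁻¹ ∨ w * w' = w := by
    have h1 : w * w' ≠ 1 := fun h => hw'w ((inv_eq_of_mul_eq_one_right h).symm.trans
      (inv_eq_of_mul_eq_one_right hw2))
    obtain ⟨j, hj, e⟩ := htrans w hwU hw1 _ (mul_mem hwU hw'U) h1
    interval_cases j
    · exact Or.inr (Or.inr (by simpa using e))
    · exact Or.inr (Or.inl (by simpa using e))
    · exact Or.inl (by rwa [pow_two] at e)
  have hww : w * w' = y * y * w * (y * y)⁻¹ := by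
    rcases hw3 with h | h | h
    · exact h
    · exact absurd (mul_eq_right.1 h) hw1
    · exact absurd (mul_eq_left.1 h) hw'1
  have hy2z : Commute (y * y) z := hyz.mul_left hyz
  have hmove : ∀ Y : G, Commute Y z →
      z * (Y * w * Y⁻¹ * z * (Y * w * Y⁻¹)⁻¹) = Y * (z * (w * z * w⁻¹)) * Y⁻¹ := fun Y hY => by
    calc z * (Y * w * Y⁻¹ * z * (Y * w * Y⁻¹)⁻¹) = z * Y * w * (Y⁻¹ * z) * Y * w⁻¹ * Y⁻¹ := by group
      _ = z * Y * w * (z * Y⁻¹) * Y * w⁻¹ * Y⁻¹ := by rw [hY.inv_left.eq]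
      _ = (z * Y) * (w * z * w⁻¹) * Y⁻¹ := by group
      _ = (Y * z) * (w * z * w⁻¹) * Y⁻¹ := by rw [hY.eq]
      _ = _ := by group
  have hab : (a * b) * (a * b) = 1 := by
    have h1 : a * b = w * (z * ((y * y * w * (y * y)⁻¹) * z * (y * y * w * (y * y)⁻¹)⁻¹)) * w⁻¹ := by
      rw [← hww, ha, hb]
      calc w * z * w⁻¹ * (w' * z * w'⁻¹) = w * (z * ((w⁻¹ * w') * z * (w⁻¹ * w')⁻¹)) * w⁻¹ := by group
        _ = _ := by rw [inv_eq_of_mul_eq_one_right hw2]
    have h2 : z * ((y * y * w * (y * y)⁻¹) * z * (y * y * w * (y * y)⁻¹)⁻¹) =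
        y * y * (z * a) * (y * y)⁻¹ := by
      rw [ha]; exact hmove _ hy2z
    rw [h1, h2, conj_mul, conj_mul, hrel]; simp
  have hswap : ∀ s t : G, (s * t) * (s * t) = 1 → (t * s) * (t * s) = 1 := fun s t h => by
    rw [show (t * s) * (t * s) = s⁻¹ * ((s * t) * (s * t)) * s by group, h]; simp
  have h3 : ∀ f : G, orderOf f = 3 → f * f * f = 1 := fun f hf => by
    rw [(sq_eq_inv_of_three hf).1, inv_mul_cancel]
  have hoz := hpz.gy.1
  have hoa : orderOf a = 3 := (hpz.gy.conj w).1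
  have hob : orderOf b = 3 := (hpz.gy.conj w').1
  have hxa := hxconj w hwx
  have hxb := hxconj w' hw'x
  -- the chain of closures
  have c1 : Nat.card (Subgroup.closure ((({x} : Finset G)) : Set G)) ≤ 3 := by
    rw [Finset.coe_singleton, ← Subgroup.zpowers_eq_closure, Nat.card_zpowers, hp.gx.1]
  have c2 : Nat.card (Subgroup.closure ((({x, z} : Finset G)) : Set G)) ≤ 12 := by
    have h := card_closure_insert ({x} : Finset G) z
      (by simp only [Finset.forall_mem_insert, Finset.mem_singleton, forall_eq]; exact h3 x hp.gx.1)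
      (h3 z hoz) (by simp only [Finset.mem_singleton, forall_eq]; exact hxz)
      (by simp only [Finset.mem_singleton, forall_eq]; simp)
    rw [Finset.card_singleton] at h
    have he : (({x, z} : Finset G) : Set G) = ((({x} : Finset G)) : Set G) ∪ {z} := by
      ext g; simp [or_comm]
    rw [he]
    omega
  have c3 : Nat.card (Subgroup.closure ((({x, z, a} : Finset G)) : Set G)) ≤ 60 := by
    have h := card_closure_insert ({x, z} : Finset G) a
      (by simp only [Finset.forall_mem_insert, Finset.mem_singleton, forall_eq]; exact ⟨h3 x hp.gx.1, h3 z hoz⟩)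
      (h3 a hoa)
      (by simp only [Finset.forall_mem_insert, Finset.mem_singleton, forall_eq]; exact ⟨hxa, hrel⟩)
      (by
        simp only [Finset.forall_mem_insert, Finset.mem_singleton, forall_eq]
        exact ⟨⟨fun h => absurd rfl h, fun _ => hxz⟩, fun _ => hswap _ _ hxz, fun h => absurd rfl h⟩)
    have he : (({x, z, a} : Finset G) : Set G) = ((({x, z} : Finset G)) : Set G) ∪ {a} := by
      ext g; simp only [Finset.coe_insert, Finset.coe_singleton, Set.mem_insert_iff, Set.mem_singleton_iff,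
        Set.mem_union]; tauto
    rw [he]
    have h' := Nat.mul_le_mul (Nat.add_le_add_left (Finset.card_le_two : ({x, z} : Finset G).card ≤ 2) 3) c2
    omega
  set H := Subgroup.closure ((({x, z, a, b} : Finset G)) : Set G) with hHdef
  have c4 : Nat.card H ≤ 360 := by
    have h := card_closure_insert ({x, z, a} : Finset G) b
      (by simp only [Finset.forall_mem_insert, Finset.mem_singleton, forall_eq]
          exact ⟨h3 x hp.gx.1, h3 z hoz, h3 a hoa⟩)
      (h3 b hob)
      (by simp only [Finset.forall_mem_insert, Finset.mem_singleton, forall_eq]; exact ⟨hxb, hzb, hab⟩)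
      (by
        simp only [Finset.forall_mem_insert, Finset.mem_singleton, forall_eq]
        exact ⟨⟨fun h => absurd rfl h, fun _ => hxz, fun _ => hxa⟩,
          ⟨fun _ => hswap _ _ hxz, fun h => absurd rfl h, fun _ => hrel⟩,
          fun _ => hswap _ _ hxa, fun _ => hswap _ _ hrel, fun h => absurd rfl h⟩)
    have he : (({x, z, a, b} : Finset G) : Set G) = ((({x, z, a} : Finset G)) : Set G) ∪ {b} := by
      ext g; simp only [Finset.coe_insert, Finset.coe_singleton, Set.mem_insert_iff, Set.mem_singleton_iff,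
        Set.mem_union]; tauto
    rw [hHdef, he]
    have h' := Nat.mul_le_mul (Nat.add_le_add_left (Finset.card_le_three : ({x, z, a} : Finset G).card ≤ 3) 3) c3
    omega
  have hHne : H ≠ ⊤ := fun h => by
    rw [h, Subgroup.card_top, hy.card] at c4; omega
  -- five generators
  set c := w * w' * z * (w * w')⁻¹ with hc
  have hoc : orderOf c = 3 := (hpz.gy.conj (w * w')).1
  have hxc := hxconj (w * w') (hwx.mul_left hw'x)
  have hcU : w * w' ∈ U := mul_mem hwU hw'U
  have hUcomm : ∀ u ∈ U, ∀ t ∈ U, u * t = t * u := fun u hu t ht => by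
    have e : ∀ s ∈ U, s⁻¹ = s := fun s hs => inv_eq_of_mul_eq_one_right (hU2 s hs).1
    rw [← e _ (mul_mem hu ht), mul_inv_rev, e u hu, e t ht]
  have hzc : (z * c) * (z * c) = 1 := by
    have : z * c = y * y * (z * a) * (y * y)⁻¹ := by
      rw [hc, hww, ha]
      exact hmove _ hy2z
    rw [this, conj_mul, hrel]; simp
  have hac : (a * c) * (a * c) = 1 := by
    have : a * c = w * (z * b) * w⁻¹ := by rw [ha, hc, hb]; group
    rw [this, conj_mul, hzb]; simp
  have hbc : (b * c) * (b * c) = 1 := by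
    have : b * c = w' * (z * a) * w'⁻¹ := by
      rw [hc, hUcomm w hwU w' hw'U, hb, ha]; group
    rw [this, conj_mul, hrel]; simp
  have h := card_closure_insert ({x, z, a, b} : Finset G) c
    (by simp only [Finset.forall_mem_insert, Finset.mem_singleton, forall_eq]
        exact ⟨h3 x hp.gx.1, h3 z hoz, h3 a hoa, h3 b hob⟩)
    (h3 c hoc)
    (by simp only [Finset.forall_mem_insert, Finset.mem_singleton, forall_eq]; exact ⟨hxc, hzc, hac, hbc⟩)
    (by
      simp only [Finset.forall_mem_insert, Finset.mem_singleton, forall_eq]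
      exact ⟨⟨fun h => absurd rfl h, fun _ => hxz, fun _ => hxa, fun _ => hxb⟩,
        ⟨fun _ => hswap _ _ hxz, fun h => absurd rfl h, fun _ => hrel, fun _ => hzb⟩,
        ⟨fun _ => hswap _ _ hxa, fun _ => hswap _ _ hrel, fun h => absurd rfl h, fun _ => hab⟩,
        fun _ => hswap _ _ hxb, fun _ => hswap _ _ hzb, fun _ => hswap _ _ hab, fun h => absurd rfl h⟩)
  rw [← hHdef] at h
  set K := Subgroup.closure ((({x, z, a, b} : Finset G) : Set G) ∪ {c}) with hK
  -- `K` is normal
  have hxK : x ∈ K := Subgroup.subset_closure (Or.inl (by simp))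
  have hzK : z ∈ K := Subgroup.subset_closure (Or.inl (by simp))
  have haK : a ∈ K := Subgroup.subset_closure (Or.inl (by simp))
  have hbK : b ∈ K := Subgroup.subset_closure (Or.inl (by simp))
  have hcK : c ∈ K := Subgroup.subset_closure (Or.inr rfl)
  have hzu : ∀ u ∈ U, u * z * u⁻¹ ∈ K := by
    intro u hu
    by_cases hu1 : u = 1
    · rw [hu1]; simpa using hzK
    obtain ⟨j, hj, e⟩ := htrans w hwU hw1 u hu hu1
    interval_cases j
    · rw [show u = w by simpa using e]; exact haK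
    · rw [show u = w' by simpa using e]; exact hbK
    · rw [e, pow_two, ← hww]; exact hcK
  have hconjK : ∀ g, (g * x * g⁻¹ ∈ K ∧ ∀ u ∈ U, g * (u * z * u⁻¹) * g⁻¹ ∈ K) →
      g ∈ Subgroup.normalizer (K : Set G) := by
    intro g ⟨hgx, hgz⟩
    rw [Subgroup.mem_normalizer_iff_map_conj_eq]
    refine Subgroup.eq_of_le_of_card_ge ?_ (by rw [Subgroup.card_map_of_injective (MulAut.conj g).injective])
    rw [Subgroup.map_le_iff_le_comap, hK, Subgroup.closure_le]
    rintro s (hs | hs)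
    · simp only [Finset.coe_insert, Finset.coe_singleton, Set.mem_insert_iff, Set.mem_singleton_iff] at hs
      show g * s * g⁻¹ ∈ K
      rcases hs with hs | hs | hs | hs <;> rw [hs]
      · exact hgx
      · simpa using hgz 1 U.one_mem
      · exact hgz w hwU
      · exact hgz w' hw'U
    · rw [Set.mem_singleton_iff] at hs
      show g * s * g⁻¹ ∈ K
      rw [hs]
      exact hgz _ hcU
  have hCN : C x ≤ Subgroup.normalizer (K : Set G) := by
    intro g hg
    obtain ⟨u, hu, P, hxP, hyP, p, hpP, rfl⟩ := hdec g (mem_C.1 hg)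
    refine mul_mem (hconjK u ⟨?_, fun t ht => ?_⟩) ?_
    · rw [mul_inv_eq_iff_eq_mul.2 (hU2 u hu).2.eq]; exact hxK
    · rw [show u * (t * z * t⁻¹) * u⁻¹ = (u * t) * z * (u * t)⁻¹ by group]
      exact hzu _ (mul_mem hu ht)
    · have hxm : x ∈ Subgroup.normalizer (K : Set G) := Subgroup.le_normalizer hxK
      have hym : y ∈ Subgroup.normalizer (K : Set G) := by
        refine hconjK y ⟨?_, fun t ht => ?_⟩
        · rw [mul_inv_eq_iff_eq_mul.2 hp.comm.symm.eq]; exact hxK
        · rw [show y * (t * z * t⁻¹) * y⁻¹ = (y * t * y⁻¹) * (y * z * y⁻¹) * (y * t * y⁻¹)⁻¹ by group,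
            mul_inv_eq_iff_eq_mul.2 hyz.eq]
          refine hzu _ (hUchar _ ((hp.comm.symm.mul_left (hU2 t ht).2).mul_left hp.comm.symm.inv_left) ?_)
          rw [conj_pow, pow_four_of_sq (hU2 t ht).1]; simp
      have hSP := hy.eq_P P (inf_le_left : (P : Subgroup G) ⊓ Subgroup.normalizer (K : Set G) ≤ P)
        hp.gx.1 ⟨hxP, hxm⟩ ⟨hyP, hym⟩ hp.indep
      exact (hSP.symm ▸ hpP : p ∈ (P : Subgroup G) ⊓ Subgroup.normalizer (K : Set G)).2
  have hvK : v ∈ K := by
    obtain ⟨V, -, hV2, hVchar, hVfix, -, hVtrans⟩ := hy.four hp.symm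
    have hv2 : v * v = 1 := by rw [← pow_two, ← hv, pow_orderOf_eq_one]
    have hv1 : v ≠ 1 := fun h => by rw [h, orderOf_one] at hv; omega
    have hvV : v ∈ V := hVchar v hvy (pow_four_of_sq hv2)
    have hxv : x * v * x⁻¹ ∈ V := hVchar _
      ((hp.comm.mul_left hvy).mul_left hp.comm.inv_left) (by rw [conj_pow, pow_four_of_sq hv2]; simp)
    have he : x * z = x * v * x⁻¹ * v⁻¹ := by rw [hz]; group
    have hne : x * z ≠ 1 := fun h1 => hncz (by
      rw [show z = x⁻¹ from (inv_eq_of_mul_eq_one_right h1).symm]; exact (Commute.refl x).inv_right)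
    obtain ⟨j, -, hj⟩ := hVtrans (x * z) (he ▸ mul_mem hxv (inv_mem hvV)) hne v hvV hv1
    rw [hj]
    exact mul_mem (mul_mem (pow_mem hxK j) (mul_mem hxK hzK)) (inv_mem (pow_mem hxK j))
  have htop := hy.gen_top hp hv hvy _ hCN (Subgroup.le_normalizer hvK)
  haveI : K.Normal := Subgroup.normalizer_eq_top_iff.1 htop
  rcases IsSimpleGroup.eq_bot_or_eq_top_of_normal K inferInstance with hb' | ht'
  · exact hp.gx.one_ne (Subgroup.mem_bot.1 (hb' ▸ hxK))
  rw [ht', Subgroup.card_top, hy.card] at h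
  have hc4 : ({x, z, a, b} : Finset G).card ≤ 4 := Finset.card_le_four
  have h7 : 7 * Nat.card H ≥ 2520 := le_trans h (Nat.mul_le_mul_right _ (by omega))
  have hi := H.index_mul_card
  rw [hy.card] at hi
  have h8 : 8 * Nat.card H ≤ 2520 := hi ▸ Nat.mul_le_mul_right _ (hy.small H hHne)
  omega

theorem Hyp.false (hy : Hyp G) : False := by
  obtain ⟨x, hx⟩ := hy.exists_good
  obtain ⟨-, P, R, -, hxP, -⟩ := id hx
  obtain ⟨y, -, hp, -, -, -⟩ := hy.orbit hx P hxP
  obtain ⟨v, hvC, hv⟩ := exists_orderOf Nat.prime_two (C y) (by rw [(hy.good_card hp.gy).1]; norm_num)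
  have hvy := mem_C.1 hvC
  obtain ⟨hpz, hxz, hncz, hG4⟩ := hy.zed hp hv hvy
  set z := v * x⁻¹ * v⁻¹ with hz
  obtain ⟨v', hv'C, hv'⟩ := exists_orderOf Nat.prime_two (C z) (by rw [(hy.good_card hpz.gy).1]; norm_num)
  have hv'z := mem_C.1 hv'C
  set e := v' * y * v'⁻¹ with he
  have hze : Pair z e := by
    have h := (hpz.conj v').symm
    rwa [mul_inv_eq_iff_eq_mul.2 hv'z.eq] at h
  have hey : e ≠ y ∧ e ≠ y⁻¹ := by
    constructor
    · exact fun h => hpz.ne_comm hy hv' hv'z (mul_inv_eq_iff_eq_mul.1 h)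
    · intro h
      obtain ⟨V, -, hV2, hVchar, -, -, -⟩ := hy.four hpz.symm
      have hv'2 : v' * v' = 1 := by rw [← pow_two, ← hv', pow_orderOf_eq_one]
      have hv'V : v' ∈ V := hVchar v' hv'z (pow_four_of_sq hv'2)
      have hyv : y * v' * y⁻¹ ∈ V := hVchar _ ((hpz.comm.mul_left hv'z).mul_left hpz.comm.inv_left)
        (by rw [conj_pow, pow_four_of_sq hv'2]; simp)
      have hy2 : y * y ∈ V := by
        have hm := mul_mem hyv (inv_mem hv'V)
        rwa [show y * v' * y⁻¹ * v'⁻¹ = y * (v' * y⁻¹ * v'⁻¹) by group, ← conj_inv, ← he, h, inv_inv] at hm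
      have h4 := (hV2 _ hy2).1
      rw [(sq_eq_inv_of_three hp.gy.1).1, (sq_eq_inv_of_three hp.gy.1).2.1] at h4
      exact hp.gy.one_ne h4
  have hnce : ¬ Commute e x := fun h => by
    rcases hG4 e hze.gy.1 h hze.comm.symm with h' | h'
    exacts [hey.1 h', hey.2 h']
  -- pigeonhole on the cosets of `Pm e`
  obtain ⟨g₁, g₂, hne, hg⟩ : ∃ g₁ g₂ : C x, g₁ ≠ g₂ ∧
      (QuotientGroup.mk (g₁ : G) : G ⧸ Pm e) = QuotientGroup.mk (g₂ : G) := by
    by_contra hcon
    have hinj : Function.Injective (fun g : C x => (QuotientGroup.mk (g : G) : G ⧸ Pm e)) :=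
      fun a b hab => by
        by_contra hab'
        exact hcon ⟨a, b, hab', hab⟩
    have h := Nat.card_le_card_of_injective _ hinj
    rw [(hy.good_card hx).1, ← Subgroup.index_eq_card] at h
    have h2 := (Pm e).index_mul_card
    rw [hy.card] at h2
    have := Nat.mul_le_mul h (hy.card_Pm hze.gy)
    omega
  set s₀ := (g₁ : G)⁻¹ * g₂ with hs₀
  have hs₀e : s₀ ∈ Pm e := QuotientGroup.eq.1 hg
  have hs₀x : s₀ ∈ C x := mul_mem (inv_mem g₁.2) g₂.2
  have hs₁ : s₀ ≠ 1 := fun h => hne (Subtype.ext (inv_mul_eq_one.1 h))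
  obtain ⟨s, hsx, hse, hs⟩ : ∃ s, Commute s x ∧ s ∈ Pm e ∧ (orderOf s = 2 ∨ orderOf s = 3) := by
    have hd : orderOf s₀ ∣ 36 := (hy.good_card hx).1 ▸ (C x).orderOf_dvd_natCard hs₀x
    have hne1 : orderOf s₀ ≠ 1 := fun h => hs₁ (orderOf_eq_one_iff.1 h)
    have hcase : 2 ∣ orderOf s₀ ∨ 3 ∣ orderOf s₀ := by
      have hm : orderOf s₀ ∈ (36 : ℕ).divisors := Nat.mem_divisors.2 ⟨hd, by norm_num⟩
      rw [show (36 : ℕ).divisors = {1, 2, 3, 4, 6, 9, 12, 18, 36} by decide +kernel] at hm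
      simp only [Finset.mem_insert, Finset.mem_singleton] at hm
      rcases hm with h | h | h | h | h | h | h | h | h <;> omega
    rcases hcase with h | h
    · exact ⟨s₀ ^ (orderOf s₀ / 2), (mem_C.1 hs₀x).pow_left _, pow_mem hs₀e _, Or.inl
        (by rw [orderOf_pow_orderOf_div (orderOf_pos s₀).ne' h])⟩
    · exact ⟨s₀ ^ (orderOf s₀ / 3), (mem_C.1 hs₀x).pow_left _, pow_mem hs₀e _, Or.inr
        (by rw [orderOf_pow_orderOf_div (orderOf_pos s₀).ne' h])⟩
  rcases hs with hs | hs
  · -- an involution inverting `e`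
    have hs2 : s * s = 1 := by rw [← pow_two, ← hs, pow_orderOf_eq_one]
    have hsi : s⁻¹ = s := inv_eq_of_mul_eq_one_right hs2
    have hinv : s * e * s⁻¹ = e⁻¹ := by
      rcases hse with h | h
      · exfalso
        rcases hy.invol_line hx hs hsx hze.gy.1 (mul_inv_eq_iff_eq_mul.1 h) with h' | h'
        · exact hnce (h' ▸ Commute.refl x)
        · exact hnce (h' ▸ (Commute.refl x).inv_left)
      · exact h
    set z' := s * z * s⁻¹ with hz'
    have hz'g : Good z' := hpz.gy.conj s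
    have hz'e : Commute z' e := by
      refine Commute.inv_right_iff.1 ?_
      rw [← hinv, hz']
      show s * z * s⁻¹ * (s * e * s⁻¹) = s * e * s⁻¹ * (s * z * s⁻¹)
      rw [conj_mul, conj_mul, hze.comm.eq]
    obtain ⟨q, hqC, hq⟩ := exists_orderOf Nat.prime_two (C e) (by rw [(hy.good_card hze.gy).1]; norm_num)
    have hnz : z' ≠ z ∧ z' ≠ z⁻¹ := by
      have key : Commute (s * y * s⁻¹) z → False := fun hc => by
        have hcx : Commute (s * y * s⁻¹) x := (hsx.mul_left hp.comm.symm).mul_left hsx.inv_left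
        obtain ⟨U, -, hU2, hUchar, hUfix, -, -⟩ := hy.four hp
        have hsU : s ∈ U := hUchar s hsx (pow_four_of_sq hs2)
        have hs1 : s ≠ 1 := fun h => by rw [h, orderOf_one] at hs; omega
        rcases hG4 _ ((hp.gy.conj s).1) hcx hc with h | h
        · exact hs1 (hUfix s hsU (mul_inv_eq_iff_eq_mul.1 h))
        · have hys : y * s * y⁻¹ ∈ U := hUchar _ ((hp.comm.symm.mul_left hsx).mul_left hp.comm.symm.inv_left)
            (by rw [conj_pow, pow_four_of_sq hs2]; simp)
          have hy2 : y * y ∈ U := by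
            have hm := mul_mem hys (inv_mem hsU)
            rwa [show y * s * y⁻¹ * s⁻¹ = y * (s * y⁻¹ * s⁻¹) by group, ← conj_inv, h, inv_inv] at hm
          have h4 := (hU2 _ hy2).1
          rw [(sq_eq_inv_of_three hp.gy.1).1, (sq_eq_inv_of_three hp.gy.1).2.1] at h4
          exact hp.gy.one_ne h4
      have hcz : Commute (s * y * s⁻¹) z' := by
        show s * y * s⁻¹ * (s * z * s⁻¹) = s * z * s⁻¹ * (s * y * s⁻¹)
        rw [conj_mul, conj_mul, hpz.comm.eq]
      exact ⟨fun h => key (h ▸ hcz), fun h => key (Commute.inv_right_iff.1 (h ▸ hcz))⟩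
    obtain ⟨V, -, hV2, hVchar, -, hVdec, -⟩ := hy.four hze.symm
    rcases hy.nbr hze hq (mem_C.1 hqC) hz'g hz'e with h | h | ⟨t, ht, h⟩
    · exact hnce (by
        have hc : Commute z' e := hz'e
        have h1 : Commute e e⁻¹ := (Commute.refl e).inv_right
        exfalso
        apply hze.symm.indep
        have hz : z = s⁻¹ * e * s := by rw [← h, hz']; group
        rw [hz, hsi, show s * e * s = s * e * s⁻¹ by rw [hsi], hinv]
        exact inv_mem (Subgroup.mem_zpowers e))
    · exfalso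
      apply hze.symm.indep
      have hz : z = s⁻¹ * e⁻¹ * s := by rw [← h, hz']; group
      rw [hz, hsi, show s * e⁻¹ * s = s * e⁻¹ * s⁻¹ by rw [hsi], ← conj_inv, hinv, inv_inv]
      exact Subgroup.mem_zpowers e
    rcases h with h | ⟨j, -, h⟩
    · rcases ht with rfl | rfl
      exacts [hnz.1 h, hnz.2 h]
    set q' := z ^ j * q * (z ^ j)⁻¹ with hq'
    have hq'V : q' ∈ V := by
      have hq2 : q * q = 1 := by rw [← pow_two, ← hq, pow_orderOf_eq_one]
      refine hVchar _ (((hze.comm.pow_left j).mul_left (mem_C.1 hqC)).mul_left (hze.comm.pow_left j).inv_left) ?_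
      rw [hq', conj_pow, pow_four_of_sq hq2]; simp
    have hq'e : Commute q' e := (hV2 q' hq'V).2
    have h' : z' = q' * t * q'⁻¹ := by
      have hc : Commute (z ^ j) t := by
        rcases ht with rfl | rfl
        exacts [(Commute.refl z).pow_left j, ((Commute.refl z).pow_left j).inv_right]
      rw [h, hq']
      calc z ^ j * q * t * (z ^ j * q)⁻¹
          = z ^ j * q * ((z ^ j)⁻¹ * (z ^ j * t)) * q⁻¹ * (z ^ j)⁻¹ := by group
        _ = z ^ j * q * ((z ^ j)⁻¹ * (t * z ^ j)) * q⁻¹ * (z ^ j)⁻¹ := by rw [hc.eq]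
        _ = _ := by group
    rcases ht with rfl | rfl
    · -- inner case
      set d := s * q' with hd
      have hq'2 : q' * q' = 1 := (hV2 q' hq'V).1
      have hdz : Commute d z := by
        refine mul_inv_eq_iff_eq_mul.1 ?_
        calc d * z * d⁻¹ = s * (q' * z * q'⁻¹) * s⁻¹ := by rw [hd]; group
          _ = s * (s * z * s⁻¹) * s⁻¹ := by rw [← h']
          _ = (s * s) * z * (s * s)⁻¹ := by group
          _ = z := by rw [hs2]; simp
      have hde : d * e * d⁻¹ = e⁻¹ := by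
        rw [hd, show s * q' * e * (s * q')⁻¹ = s * (q' * e * q'⁻¹) * s⁻¹ by group,
          mul_inv_eq_iff_eq_mul.2 hq'e.eq, hinv]
      have hd2e : Commute (d * d) e := by
        refine mul_inv_eq_iff_eq_mul.1 ?_
        calc d * d * e * (d * d)⁻¹ = d * (d * e * d⁻¹) * d⁻¹ := by group
          _ = e := by rw [hde, ← conj_inv, hde, inv_inv]
      obtain ⟨Q, hzQ, heQ⟩ := hze.exists_sylow
      have hd2 : d * d ∈ (Q : Subgroup G) :=
        hy.self_cent Q (hy.gen_P hze Q hzQ heQ (hdz.mul_left hdz) hd2e)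
      have h9 : (d ^ 9) * (d ^ 9) = 1 := by
        rw [← ((Commute.refl d).mul_pow 9)]; exact hy.pow_nine Q hd2
      have hd9 : d ^ 9 * e * (d ^ 9)⁻¹ = e⁻¹ := by
        have hc := ((hd2e.pow_left 4))
        rw [show d ^ 9 = d * (d * d) ^ 4 by rw [← pow_two, ← pow_mul, ← pow_succ']]
        calc d * (d * d) ^ 4 * e * (d * (d * d) ^ 4)⁻¹
            = d * ((d * d) ^ 4 * e) * ((d * d) ^ 4)⁻¹ * d⁻¹ := by group
          _ = d * (e * (d * d) ^ 4) * ((d * d) ^ 4)⁻¹ * d⁻¹ := by rw [hc.eq]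
          _ = d * e * d⁻¹ := by group
          _ = e⁻¹ := hde
      obtain ⟨W, -, hW2, hWchar, -, -, -⟩ := hy.four hze
      have hcW : d ^ 9 ∈ W := hWchar _ (hdz.pow_left 9) (pow_four_of_sq h9)
      have hecW : e * d ^ 9 * e⁻¹ ∈ W := hWchar _
        ((hze.comm.symm.mul_left (hdz.pow_left 9)).mul_left hze.comm.symm.inv_left)
        (by rw [conj_pow, pow_four_of_sq h9]; simp)
      have he2 : e * e ∈ W := by
        have hm := mul_mem hecW (inv_mem hcW)
        rwa [show e * d ^ 9 * e⁻¹ * (d ^ 9)⁻¹ = e * (d ^ 9 * e⁻¹ * (d ^ 9)⁻¹) by group, ← conj_inv, hd9,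
          inv_inv] at hm
      have h4 := (hW2 _ he2).1
      rw [(sq_eq_inv_of_three hze.gy.1).1, (sq_eq_inv_of_three hze.gy.1).2.1] at h4
      exact hze.gy.one_ne h4
    · -- outer case
      refine hy.not_four hp hv hvy hs hsx ?_
      rw [← hz, ← hz', h']
      have hq'2 : q'⁻¹ = q' := inv_eq_of_mul_eq_one_right (hV2 q' hq'V).1
      have hzq : z * q' * z⁻¹ ∈ V := hVchar _
        ((hze.comm.mul_left hq'e).mul_left hze.comm.inv_left)
        (by rw [conj_pow, pow_four_of_sq (hV2 q' hq'V).1]; simp)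
      have hmem : z * (q' * z⁻¹ * q'⁻¹) ∈ V := by
        rw [show z * (q' * z⁻¹ * q'⁻¹) = (z * q' * z⁻¹) * q'⁻¹ by group]
        exact mul_mem hzq (inv_mem hq'V)
      exact (hV2 _ hmem).1
  · -- an element of order 3
    have hse' := commute_of_mem_Pm hze.gy.1 hs hse
    by_cases hgs : Good s
    · rcases hy.nbr (a := y) (b := x) hp.symm
        (v := Classical.choose (exists_orderOf Nat.prime_two (C x) (by rw [(hy.good_card hx).1]; norm_num)))
        (Classical.choose_spec (exists_orderOf Nat.prime_two (C x) (by rw [(hy.good_card hx).1]; norm_num))).2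
        (mem_C.1 (Classical.choose_spec
          (exists_orderOf Nat.prime_two (C x) (by rw [(hy.good_card hx).1]; norm_num))).1)
        hgs hsx with h | h | ⟨t, ht, h⟩
      · exact hnce (h ▸ hse'.symm)
      · exact hnce (Commute.inv_right_iff.1 (h ▸ hse'.symm))
      · obtain ⟨c, hc, hct⟩ : ∃ c, Commute c x ∧ s = c * t * c⁻¹ := by
          rcases h with h | ⟨j, -, h⟩
          · exact ⟨1, Commute.one_left x, by rw [h]; simp⟩
          · exact ⟨_, (hp.comm.symm.pow_left j).mul_left (mem_C.1 (Classical.choose_spec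
              (exists_orderOf Nat.prime_two (C x) (by rw [(hy.good_card hx).1]; norm_num))).1), h⟩
        set e₀ := c⁻¹ * e * c with he₀
        have he₀g : Good e₀ := by
          have := hze.gy.conj c⁻¹
          rwa [inv_inv] at this
        have he₀t : Commute e₀ t := by
          show c⁻¹ * e * c * t = t * (c⁻¹ * e * c)
          calc c⁻¹ * e * c * t = c⁻¹ * (e * s) * c := by rw [hct]; group
            _ = c⁻¹ * (s * e) * c := by rw [hse'.eq]
            _ = _ := by rw [hct]; group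
        have he₀y : Commute e₀ y := by
          rcases ht with rfl | rfl
          exacts [he₀t, Commute.inv_right_iff.1 he₀t]
        have hee : e = c * e₀ * c⁻¹ := by rw [he₀]; group
        rcases hy.nbr hp hv hvy he₀g he₀y with h1 | h1 | ⟨r, hr, h1⟩
        · exact hnce (hee ▸ h1 ▸ ((hc.mul_left hp.comm.symm).mul_left hc.inv_left))
        · exact hnce (hee ▸ h1 ▸ ((hc.mul_left hp.comm.symm.inv_left).mul_left hc.inv_left))
        · have hrx : Commute r x := by
            rcases hr with e' | e' <;> rw [e']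
            exact (Commute.refl x).inv_left
          rcases h1 with h1 | ⟨i, -, h1⟩
          · exact hnce (hee ▸ h1 ▸ ((hc.mul_left hrx).mul_left hc.inv_left))
          · refine hy.not_closed hp hv hvy hv' hv'z ⟨c * x ^ i, hc.mul_left ((Commute.refl x).pow_left i),
              v * r * v⁻¹, ?_, ?_⟩
            · rcases hr with e' | e' <;> rw [e']
              · exact Or.inr (by rw [conj_inv, inv_inv])
              · exact Or.inl rfl
            · rw [← he, hee, h1]; group
    · -- a self-centralising element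
      obtain ⟨U, -, hU2, hUchar, -, hdec, -⟩ := hy.four hp
      have hs1 : s ≠ 1 := fun h => by rw [h, orderOf_one] at hs; omega
      obtain ⟨hle, hdvd⟩ := hy.card_C hs1
      have h2 : ¬ 2 ∣ Nat.card (C s) := fun h => by
        obtain ⟨w, hwC, hw⟩ := exists_orderOf Nat.prime_two (C s) h
        exact hgs (hy.nice_good hs hw (mem_C.1 hwC))
      have hsub : Subgroup.zpowers s ≤ Subgroup.normalizer (Subgroup.zpowers x : Set G) := by
        rw [Subgroup.zpowers_le, Subgroup.mem_normalizer_iff_map_conj_eq, MonoidHom.map_zpowers]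
        congr 1
        exact mul_inv_eq_iff_eq_mul.2 hsx.eq
      have hpg := (IsPGroup.of_card (G := Subgroup.zpowers x) (p := 3) (n := 1)
        (by rw [Nat.card_zpowers, hx.1, pow_one])).to_sup_of_normal_left'
        (IsPGroup.of_card (G := Subgroup.zpowers s) (p := 3) (n := 1)
          (by rw [Nat.card_zpowers, hs, pow_one])) hsub
      obtain ⟨Q, hQ⟩ := hpg.exists_le_sylow
      have hxQ := hQ (Subgroup.mem_sup_left (Subgroup.mem_zpowers x))
      have hsQ := hQ (Subgroup.mem_sup_right (Subgroup.mem_zpowers s))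
      have h9 : Nat.card (C s) = 9 := by
        have hmem : Nat.card (C s) ∈ (Nat.divisors 2520).filter
            (fun d => d ≤ 315 ∧ 9 ∣ d ∧ ¬ 7 ∣ d ∧ ¬ 5 ∣ d ∧ ¬ 2 ∣ d) := by
          simp only [Finset.mem_filter, Nat.mem_divisors]
          exact ⟨⟨hdvd, by norm_num⟩, hle, hy.card_three Q ▸ Subgroup.card_dvd_of_le (hy.sylow_le Q hsQ),
            hy.not_seven_dvd (by rw [hs]; norm_num), hy.not_five_dvd (by rw [hs]; norm_num), h2⟩
        rwa [show (Nat.divisors 2520).filter
            (fun d => d ≤ 315 ∧ 9 ∣ d ∧ ¬ 7 ∣ d ∧ ¬ 5 ∣ d ∧ ¬ 2 ∣ d) = {9} by decide +kernel,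
          Finset.mem_singleton] at hmem
      have heq := Subgroup.eq_of_le_of_card_ge (hy.sylow_le Q hsQ) (by rw [hy.card_three Q, h9])
      have heQ : e ∈ (Q : Subgroup G) := heq ▸ mem_C.2 hse'.symm
      exact hnce (hy.comm_three Q heQ hxQ)

/-- A simple group of order 2520 has a proper subgroup of index at most 7. -/
theorem exists_small_index (h : Nat.card G = 2520) : ∃ H : Subgroup G, H ≠ ⊤ ∧ H.index ≤ 7 := by
  by_contra hcon
  push Not at hcon
  exact Hyp.false (G := G) ⟨h, hcon⟩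

end Cfsg.Agent.Lib.Order2520
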