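import Cfsg.Agent.Lib.Order2520.Basic
import Mathlib.GroupTheory.PGroup

/-!
# Simple groups of order 2520: Sylow 3-subgroups and elements of order 3
-/

namespace Cfsg.Agent.Lib.Order2520

open MulAction Cfsg.Agent.Lib.SylowCounting Cfsg.Agent.Lib.SylowCounting.Order5040

set_option linter.style.haveILetI false
set_option linter.unusedSectionVars false

/-- An element of order 3 in two Sylow 3-subgroups. -/
def Good {G : Type*} [Group G] (x : G) : Prop :=
  orderOf x = 3 ∧ ∃ P R : Sylow 3 G, P ≠ R ∧ x ∈ (P : Subgroup G) ∧ x ∈ (R : Subgroup G)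

/-- Two independent commuting good elements. -/
structure Pair {G : Type*} [Group G] (x y : G) : Prop where
  gx : Good x
  gy : Good y
  comm : Commute x y
  indep : y ∉ Subgroup.zpowers x

theorem sq_eq_inv_of_three {G : Type*} [Group G] {f : G} (hf : orderOf f = 3) :
    f * f = f⁻¹ ∧ f⁻¹ * f⁻¹ = f ∧ f⁻¹ ≠ f ∧ f ≠ 1 := by
  have h3 : f * f * f = 1 := by
    have := pow_orderOf_eq_one f
    rwa [hf, pow_succ, pow_two] at this
  have h1 : f ≠ 1 := fun h => by rw [h, orderOf_one] at hf; omega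
  refine ⟨eq_inv_of_mul_eq_one_left h3, ?_, ?_, h1⟩
  · rw [← mul_inv_rev, eq_inv_of_mul_eq_one_left h3, inv_inv]
  · intro h
    apply h1
    have : f * f = f := (eq_inv_of_mul_eq_one_left h3).trans h
    exact mul_eq_left.1 this

theorem mem_zpowers_three {G : Type*} [Group G] {f z : G} (hf : orderOf f = 3)
    (hz : z ∈ Subgroup.zpowers f) : z = 1 ∨ z = f ∨ z = f⁻¹ := by
  obtain ⟨i, rfl⟩ := Subgroup.mem_zpowers_iff.1 hz
  rw [← zpow_mod_orderOf, hf]
  have h0 := Int.emod_nonneg i (show (3 : ℤ) ≠ 0 by norm_num)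
  have h3 := Int.emod_lt_of_pos i (show (0 : ℤ) < 3 by norm_num)
  have hh : i % (3 : ℤ) = 0 ∨ i % (3 : ℤ) = 1 ∨ i % (3 : ℤ) = 2 := by omega
  rcases hh with h | h | h <;> simp only [Nat.cast_ofNat, h]
  · exact Or.inl (zpow_zero f)
  · exact Or.inr (Or.inl (zpow_one f))
  · exact Or.inr (Or.inr ((zpow_two f).trans (sq_eq_inv_of_three hf).1))

theorem commute_of_sq {G : Type*} [Group G] {f g : G} (hf : orderOf f = 3) (h : Commute (f * f) g) :
    Commute f g := by
  rw [(sq_eq_inv_of_three hf).1] at h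
  exact Commute.inv_left_iff.1 h

variable {G : Type*} [Group G] [Finite G] [IsSimpleGroup G]

theorem Hyp.card_three (hy : Hyp G) (P : Sylow 3 G) : Nat.card (P : Subgroup G) = 9 := by
  haveI : Fact (Nat.Prime 3) := ⟨by norm_num⟩
  rw [sylow_card (p := 3) (k := 2) (m := 280) (by rw [hy.card]; norm_num) (by norm_num) P]
  norm_num

theorem Hyp.comm_three (hy : Hyp G) (P : Sylow 3 G) {a b : G} (ha : a ∈ (P : Subgroup G))
    (hb : b ∈ (P : Subgroup G)) : Commute a b := by
  haveI : Fact (Nat.Prime 3) := ⟨by norm_num⟩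
  exact congrArg Subtype.val (IsPGroup.commutative_of_card_eq_prime_sq (p := 3) (G := (P : Subgroup G))
    (by rw [hy.card_three P]; norm_num) ⟨a, ha⟩ ⟨b, hb⟩)

theorem Hyp.sylow_le (hy : Hyp G) (P : Sylow 3 G) {x : G} (hx : x ∈ (P : Subgroup G)) :
    (P : Subgroup G) ≤ C x := fun _ hp => mem_C.2 (hy.comm_three P hp hx)

/-- A group of prime order normalising `P` fixes a non-trivial element. -/
theorem exists_fixed {p : ℕ} [hp : Fact p.Prime] (P : Subgroup G) (q : G)
    (hq : orderOf q = p) (hqN : q ∈ Subgroup.normalizer (P : Set G))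
    (hmod : Nat.card P % p ≠ 1) : ∃ a ∈ P, a ≠ 1 ∧ Commute q a := by
  have hN : Subgroup.zpowers q ≤ Subgroup.normalizer (P : Set G) := Subgroup.zpowers_le.2 hqN
  letI : MulAction (Subgroup.zpowers q) P :=
    { smul := fun g a => ⟨(g : G) * a.1 * (g : G)⁻¹, (Subgroup.mem_normalizer_iff.1 (hN g.2) a.1).1 a.2⟩
      one_smul := fun a => Subtype.ext (by
        show ((1 : Subgroup.zpowers q) : G) * a.1 * ((1 : Subgroup.zpowers q) : G)⁻¹ = a.1
        simp)
      mul_smul := fun g h a => Subtype.ext (by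
        show ((g * h : Subgroup.zpowers q) : G) * a.1 * ((g * h : Subgroup.zpowers q) : G)⁻¹ =
          (g : G) * ((h : G) * a.1 * (h : G)⁻¹) * (g : G)⁻¹
        simp [mul_assoc]) }
  have hpg : IsPGroup p (Subgroup.zpowers q) :=
    IsPGroup.of_card (n := 1) (by rw [Nat.card_zpowers, hq, pow_one])
  have h := hpg.card_modEq_card_fixedPoints P
  by_contra hcon
  push Not at hcon
  apply hmod
  have h1 : Nat.card (fixedPoints (Subgroup.zpowers q) P) = 1 := by
    rw [Nat.card_eq_one_iff_unique]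
    have hone : ∀ a : P, a ∈ fixedPoints (Subgroup.zpowers q) P → a = 1 := fun a ha => by
      by_contra ha1
      have := congrArg Subtype.val (ha ⟨q, Subgroup.mem_zpowers q⟩)
      exact hcon a a.2 (fun h => ha1 (Subtype.ext h)) (mul_inv_eq_iff_eq_mul.1 this)
    refine ⟨⟨fun a b => Subtype.ext ((hone _ a.2).trans (hone _ b.2).symm)⟩, ⟨⟨1, fun g => ?_⟩⟩⟩
    apply Subtype.ext
    show (g : G) * ((1 : P) : G) * (g : G)⁻¹ = ((1 : P) : G)
    simp
  rw [h1] at h
  exact (show Nat.card P % p = 1 % p from h).trans (Nat.mod_eq_of_lt hp.out.one_lt)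

theorem Hyp.card_normalizer_three (hy : Hyp G) (P : Sylow 3 G) :
    Nat.card (Subgroup.normalizer ((P : Subgroup G) : Set G)) = 36 := by
  haveI : Fact (Nat.Prime 3) := ⟨by norm_num⟩
  set N := Subgroup.normalizer ((P : Subgroup G) : Set G) with hN
  have hNi : N.index = Nat.card (Sylow 3 G) := by rw [P.card_eq_index_normalizer]; rfl
  have hNc := N.index_mul_card
  rw [hy.card] at hNc
  have hn := sylow_count_candidates (G := G) (p := 3) (k := 2) (m := 280) (by rw [hy.card]; norm_num)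
    (by norm_num) (by norm_num) (by norm_num)
  rw [show candidates 3 280 = {4, 7, 10, 28, 40, 70, 280} by decide +kernel, ← hNi] at hn
  simp only [Finset.mem_insert, Finset.mem_singleton] at hn
  have hNne : N ≠ ⊤ := fun h => by rw [h, Subgroup.index_top] at hn; omega
  have := hy.small N hNne
  have hP := hy.card_three P
  have h7 : ¬ 7 ∣ Nat.card N := by
    intro h
    haveI : Fact (Nat.Prime 7) := ⟨by norm_num⟩
    obtain ⟨q, hqN, hq⟩ := exists_orderOf (by norm_num) N h
    obtain ⟨a, haP, ha, hc⟩ := exists_fixed (P : Subgroup G) q hq hqN (by rw [hP]; norm_num)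
    have h9 : orderOf a ∣ 9 := hP ▸ (P : Subgroup G).orderOf_dvd_natCard haP
    have h7' : orderOf a ∣ 7 := hy.seven hq ▸ (C q).orderOf_dvd_natCard (mem_C.2 hc.symm)
    exact ha (orderOf_eq_one_iff.1 (Nat.dvd_one.1 (Nat.dvd_gcd h9 h7')))
  have h5 : ¬ 5 ∣ Nat.card N := by
    intro h
    haveI : Fact (Nat.Prime 5) := ⟨by norm_num⟩
    obtain ⟨r, hrN, hr⟩ := exists_orderOf (by norm_num) N h
    obtain ⟨a, haP, ha, hc⟩ := exists_fixed (P : Subgroup G) r hr hrN (by rw [hP]; norm_num)
    obtain ⟨Q, -, -, -, hd⟩ := hy.five hr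
    have h9 : orderOf a ∣ 9 := hP ▸ (P : Subgroup G).orderOf_dvd_natCard haP
    have h10 : orderOf a ∣ 10 := ((C r).orderOf_dvd_natCard (mem_C.2 hc.symm)).trans hd
    exact ha (orderOf_eq_one_iff.1 (Nat.dvd_one.1 (Nat.dvd_gcd h9 h10)))
  rcases hn with h | h | h | h | h | h | h <;> rw [h] at hNc
  · omega
  · omega
  · omega
  · omega
  · omega
  · omega
  · exfalso
    refine not_normalizer_le_centralizer hy.not_comm P (by rw [hy.card]; norm_num) ?_
    have heq : (P : Subgroup G) = N := Subgroup.eq_of_le_of_card_ge Subgroup.le_normalizer (by omega)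
    rw [← hN, ← heq]
    exact fun a ha => Subgroup.mem_centralizer_iff.2 fun b hb => (hy.comm_three P hb ha).eq

omit [IsSimpleGroup G] in
theorem sylow_relIndex_mod (P : Sylow 3 G) [Fact (Nat.Prime 3)] (M : Subgroup G)
    (hPM : (P : Subgroup G) ≤ M) :
    ∃ r, r % 3 = 1 ∧ Nat.card M =
      Nat.card ↥(M ⊓ Subgroup.normalizer ((P : Subgroup G) : Set G)) * r := by
  set N := Subgroup.normalizer ((P : Subgroup G) : Set G) with hN
  refine ⟨N.relIndex M, ?_, ?_⟩
  · have h1 := (P.subtype hPM).card_eq_index_normalizer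
    have h2 : Subgroup.normalizer (((P.subtype hPM : Sylow 3 M) : Subgroup M) : Set M) = N.subgroupOf M := by
      rw [Sylow.coe_subtype, Subgroup.subgroupOf_normalizer_eq hPM]
    rw [← Sylow.coe_coe, h2] at h1
    have h3 := sylow_count_mod (G := M) 3
    rw [h1] at h3
    exact h3
  · rw [← Subgroup.inf_relIndex_left M N, ← Subgroup.relIndex_bot_left, ← Subgroup.relIndex_bot_left,
      Subgroup.relIndex_mul_relIndex _ _ _ bot_le inf_le_left]

/-- A Sylow 3-subgroup is self-centralising. -/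
theorem Hyp.self_cent (hy : Hyp G) (P : Sylow 3 G) {g : G}
    (hg : ∀ p ∈ (P : Subgroup G), Commute g p) : g ∈ (P : Subgroup G) := by
  haveI : Fact (Nat.Prime 3) := ⟨by norm_num⟩
  by_contra hgP
  set N := Subgroup.normalizer ((P : Subgroup G) : Set G) with hNdef
  set K := Subgroup.centralizer ((P : Subgroup G) : Set G) with hKdef
  have hN : Nat.card N = 36 := hy.card_normalizer_three P
  have hP := hy.card_three P
  have hPK : (P : Subgroup G) ≤ K := fun a ha =>
    Subgroup.mem_centralizer_iff.2 fun b hb => (hy.comm_three P hb ha).eq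
  have hgK : g ∈ K := Subgroup.mem_centralizer_iff.2 fun b hb => (hg b hb).eq.symm
  have hKN : K ≤ N := Subgroup.centralizer_le_normalizer _
  have h9 : 9 ∣ Nat.card K := hP ▸ Subgroup.card_dvd_of_le hPK
  have h36 : Nat.card K ∣ 36 := hN ▸ Subgroup.card_dvd_of_le hKN
  have hne9 : Nat.card K ≠ 9 := fun h => hgP ((Subgroup.eq_of_le_of_card_ge hPK (by omega)).symm ▸ hgK)
  have hne36 : Nat.card K ≠ 36 := fun h => by
    have heq : K = N := Subgroup.eq_of_le_of_card_ge hKN (by omega)
    exact not_normalizer_le_centralizer hy.not_comm P (by rw [hy.card]; norm_num)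
      (by rw [← hNdef, ← heq])
  have hK18 : Nat.card K = 18 := by
    obtain ⟨j, hj⟩ := h9
    have := Nat.le_of_dvd (by norm_num) h36
    have : j ≤ 4 := by omega
    rw [hj] at h36 hne9 hne36 ⊢
    interval_cases j <;> first | rfl | exact absurd rfl hne9 | exact absurd rfl hne36 | exact absurd h36 (by decide)
  obtain ⟨t, htK, ht⟩ := exists_orderOf Nat.prime_two K (by omega)
  have ht2 : t * t = 1 := by rw [← pow_two, ← ht, pow_orderOf_eq_one]
  have ht1 : t ≠ 1 := fun h => by rw [h, orderOf_one] at ht; omega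
  have hout : ∀ w : G, w * w = 1 → w ≠ 1 → w ∉ (P : Subgroup G) := fun w hw hw1 hm => by
    have h1 := (P : Subgroup G).orderOf_dvd_natCard hm
    rw [hP] at h1
    have h2 : orderOf w ∣ 2 := orderOf_dvd_of_pow_eq_one (by rw [pow_two, hw])
    exact hw1 (orderOf_eq_one_iff.1 (Nat.dvd_one.1 (Nat.dvd_gcd h1 h2)))
  have hPi : ((P : Subgroup G).subgroupOf K).index = 2 := by
    have h := ((P : Subgroup G).subgroupOf K).index_mul_card
    rw [hK18, Nat.card_congr (Subgroup.subgroupOfEquivOfLe hPK).toEquiv, hP] at h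
    omega
  have hNt : N ≤ C t := by
    intro n hn
    have hu : n * t * n⁻¹ ∈ K := by
      rw [Subgroup.mem_centralizer_iff] at htK ⊢
      intro b hb
      have hb' : n⁻¹ * b * n ∈ (P : Subgroup G) := by
        simpa using (Subgroup.mem_normalizer_iff.1 (N.inv_mem hn) b).1 hb
      calc b * (n * t * n⁻¹) = n * ((n⁻¹ * b * n) * t) * n⁻¹ := by group
        _ = n * (t * (n⁻¹ * b * n)) * n⁻¹ := by rw [htK _ hb']
        _ = (n * t * n⁻¹) * b := by group
    set u := n * t * n⁻¹ with hudef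
    have hu2 : u * u = 1 := by
      rw [hudef, show n * t * n⁻¹ * (n * t * n⁻¹) = n * (t * t) * n⁻¹ by group, ht2]; simp
    have hu1 : u ≠ 1 := fun h => ht1 (conj_eq_one_iff.1 (hudef ▸ h))
    have hmem : u * t ∈ (P : Subgroup G) :=
      (Subgroup.mul_mem_iff_of_index_two hPi (a := ⟨u, hu⟩) (b := ⟨t, htK⟩)).2
        (iff_of_false (hout u hu2 hu1) (hout t ht2 ht1))
    have hc : u * t * t = t * (u * t) := (Subgroup.mem_centralizer_iff.1 htK _ hmem)
    have hcut : Commute u t := by
      show u * t = t * u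
      calc u * t = u * t * t * t := by rw [mul_assoc (u * t), ht2, mul_one]
        _ = t * u * (t * t) := by rw [hc]; group
        _ = t * u := by rw [ht2, mul_one]
    by_cases hut1 : u * t = 1
    · have h4 : u = t := (eq_inv_of_mul_eq_one_left hut1).trans (inv_eq_of_mul_eq_one_right ht2)
      exact mem_C.2 (mul_inv_eq_iff_eq_mul.1 (hudef ▸ h4))
    · exact absurd hmem (hout _ (by
        rw [← pow_two, hcut.mul_pow, pow_two, pow_two, hu2, ht2, one_mul]) hut1)
  obtain ⟨hle, hdvd⟩ := hy.card_C ht1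
  have h8 := hy.eight_dvd ht
  have h72 : Nat.card (C t) = 72 := by
    have hmem : Nat.card (C t) ∈ (Nat.divisors 2520).filter
        (fun d => d ≤ 315 ∧ 8 ∣ d ∧ 9 ∣ d) := by
      simp only [Finset.mem_filter, Nat.mem_divisors]
      exact ⟨⟨hdvd, by norm_num⟩, hle, h8, hP ▸ Subgroup.card_dvd_of_le (Subgroup.le_normalizer.trans hNt)⟩
    rwa [show (Nat.divisors 2520).filter (fun d => d ≤ 315 ∧ 8 ∣ d ∧ 9 ∣ d) = {72} by
      decide +kernel, Finset.mem_singleton] at hmem
  obtain ⟨r, hr, hr'⟩ := sylow_relIndex_mod P (C t) (Subgroup.le_normalizer.trans hNt)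
  rw [inf_of_le_right hNt, hN, h72] at hr'
  omega

/-- Some element of order 3 lies in two Sylow 3-subgroups. -/
theorem Hyp.exists_good (hy : Hyp G) : ∃ x : G, Good x := by
  haveI : Fact (Nat.Prime 3) := ⟨by norm_num⟩
  let P : Sylow 3 G := default
  have hN := hy.card_normalizer_three P
  have hn : Nat.card (Sylow 3 G) = 70 := by
    have h := (Subgroup.normalizer ((P : Subgroup G) : Set G)).index_mul_card
    rw [hN, hy.card] at h
    rw [P.card_eq_index_normalizer, ← P.coe_coe]
    omega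
  obtain ⟨P₁, R₁, hne, hD, -, -⟩ := exists_big_intersection (G := G) (p := 3) (k := 2) (m := 280)
    (by rw [hy.card]; norm_num) (by norm_num) (by rw [hn]; norm_num)
  obtain ⟨x, hx, hox⟩ := exists_orderOf (p := 3) (by norm_num) ((P₁ : Subgroup G) ⊓ R₁) (by omega)
  exact ⟨x, hox, P₁, R₁, hne, hx.1, hx.2⟩

theorem Good.inv {x : G} (h : Good x) : Good x⁻¹ := by
  obtain ⟨ho, P, R, hne, hP, hR⟩ := h
  exact ⟨(orderOf_inv x).trans ho, P, R, hne, inv_mem hP, inv_mem hR⟩

theorem Good.conj {x : G} (h : Good x) (g : G) : Good (g * x * g⁻¹) := by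
  obtain ⟨ho, P, R, hne, hP, hR⟩ := h
  refine ⟨?_, g • P, g • R, fun he => hne (smul_left_cancel g he), ?_, ?_⟩
  · rw [← ho]; exact (MulAut.conj g).orderOf_eq x
  all_goals rw [Sylow.coe_subgroup_smul, Subgroup.mem_pointwise_smul_iff_inv_smul_mem]
  · simpa [mul_assoc] using hP
  · simpa [mul_assoc] using hR

/-- The centraliser of a good element has order 36 and meets `N(P)` in `P`. -/
theorem Hyp.good_card (hy : Hyp G) {x : G} (hx : Good x) :
    Nat.card (C x) = 36 ∧ ∀ P : Sylow 3 G, x ∈ (P : Subgroup G) →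
      ∀ g ∈ Subgroup.normalizer ((P : Subgroup G) : Set G), Commute g x → g ∈ (P : Subgroup G) := by
  haveI : Fact (Nat.Prime 3) := ⟨by norm_num⟩
  obtain ⟨ho, P₁, R₁, hne, hP₁, hR₁⟩ := hx
  have hx1 : x ≠ 1 := fun h => by rw [h, orderOf_one] at ho; omega
  obtain ⟨hle, hdvd⟩ := hy.card_C hx1
  have hmem : Nat.card (C x) ∈ (Nat.divisors 2520).filter
      (fun d => d ≤ 315 ∧ 9 ∣ d ∧ ¬ 7 ∣ d ∧ ¬ 5 ∣ d) := by
    simp only [Finset.mem_filter, Nat.mem_divisors]
    exact ⟨⟨hdvd, by norm_num⟩, hle, hy.card_three P₁ ▸ Subgroup.card_dvd_of_le (hy.sylow_le P₁ hP₁),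
      hy.not_seven_dvd (by rw [ho]; norm_num), hy.not_five_dvd (by rw [ho]; norm_num)⟩
  rw [show (Nat.divisors 2520).filter (fun d => d ≤ 315 ∧ 9 ∣ d ∧ ¬ 7 ∣ d ∧ ¬ 5 ∣ d) =
    {9, 18, 36, 72} by decide +kernel] at hmem
  simp only [Finset.mem_insert, Finset.mem_singleton] at hmem
  have key : ∀ P : Sylow 3 G, x ∈ (P : Subgroup G) →
      Nat.card (C x) = 36 ∧
        C x ⊓ Subgroup.normalizer ((P : Subgroup G) : Set G) = (P : Subgroup G) := by
    intro P hxP
    obtain ⟨R, hR, hxR⟩ : ∃ R : Sylow 3 G, R ≠ P ∧ x ∈ (R : Subgroup G) := by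
      by_cases h : R₁ = P
      · exact ⟨P₁, h ▸ hne, hP₁⟩
      · exact ⟨R₁, h, hR₁⟩
    set N := Subgroup.normalizer ((P : Subgroup G) : Set G) with hNdef
    set Nx := C x ⊓ N with hNx
    have hPle : (P : Subgroup G) ≤ Nx := le_inf (hy.sylow_le P hxP) Subgroup.le_normalizer
    have h9 : 9 ∣ Nat.card Nx := hy.card_three P ▸ Subgroup.card_dvd_of_le hPle
    have hN36 : Nat.card N = 36 := hy.card_normalizer_three P
    have h36 : Nat.card Nx ∣ 36 := hN36 ▸ Subgroup.card_dvd_of_le inf_le_right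
    obtain ⟨r, hr, hr'⟩ := sylow_relIndex_mod P (C x) (hy.sylow_le P hxP)
    rw [← hNdef, ← hNx] at hr'
    have hr1 : r ≠ 1 := fun h => by
      rw [h, mul_one] at hr'
      have heq : Nx = C x := Subgroup.eq_of_le_of_card_ge inf_le_left (by omega)
      apply hR
      apply Sylow.ext
      refine Subgroup.eq_of_le_of_card_ge (fun z hz => ?_)
        (le_of_eq ((hy.card_three P).trans (hy.card_three R).symm))
      have hzN : z ∈ N := (heq ▸ hy.sylow_le R hxR hz : z ∈ Nx).2
      obtain ⟨j, hj, hjo⟩ := (Nat.dvd_prime_pow (p := 3) (by norm_num) (m := 2)).1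
        (show orderOf z ∣ 3 ^ 2 by have h := (R : Subgroup G).orderOf_dvd_natCard hz; rwa [hy.card_three R] at h)
      exact mem_sylow_of_orderOf P hzN hjo
    have hnx : Nat.card Nx = 9 ∨ Nat.card Nx = 18 ∨ Nat.card Nx = 36 := by
      obtain ⟨j, hj⟩ := h9
      have := Nat.le_of_dvd (by norm_num) h36
      have : j ≤ 4 := by omega
      rw [hj] at h36 ⊢
      interval_cases j <;> norm_num at h36 <;> norm_num
    have hcases : (Nat.card (C x) = 36 ∧ Nat.card Nx = 9) ∨ (Nat.card (C x) = 72 ∧ Nat.card Nx = 18) := by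
      rcases hnx with h | h | h <;> rw [h] at hr' ⊢ <;> rcases hmem with h' | h' | h' | h' <;> omega
    rcases hcases with ⟨h1, h2⟩ | ⟨h1, h2⟩
    · exact ⟨h1, (Subgroup.eq_of_le_of_card_ge hPle (by rw [h2, hy.card_three P])).symm⟩
    exfalso
    obtain ⟨g, hgx, hg⟩ := exists_orderOf Nat.prime_two Nx (by omega)
    have hgP : g ∉ (P : Subgroup G) := fun h => by
      have := (P : Subgroup G).orderOf_dvd_natCard h
      rw [hy.card_three P, hg] at this
      omega
    haveI : (Nx.subgroupOf N).Normal := by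
      apply Subgroup.normal_of_index_eq_two
      have h := (Nx.subgroupOf N).index_mul_card
      rw [hN36, Nat.card_congr (Subgroup.subgroupOfEquivOfLe
        (inf_le_right : Nx ≤ N)).toEquiv, h2] at h
      omega
    have hline : ∀ h ∈ N, h * x * h⁻¹ ∈ Subgroup.zpowers x := by
      intro h hh
      by_contra hout
      have hc1 : Commute (h⁻¹ * g * h) x := by
        have := Subgroup.Normal.conj_mem (inferInstance : (Nx.subgroupOf N).Normal)
          ⟨g, hgx.2⟩ (show (⟨g, hgx.2⟩ : N) ∈ Nx.subgroupOf N from hgx) ⟨h⁻¹, N.inv_mem hh⟩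
        have h' : h⁻¹ * g * h⁻¹⁻¹ ∈ Nx := this
        rw [inv_inv] at h'
        exact mem_C.1 h'.1
      have hc2 : Commute g (h * x * h⁻¹) := by
        show g * (h * x * h⁻¹) = h * x * h⁻¹ * g
        calc g * (h * x * h⁻¹) = h * ((h⁻¹ * g * h) * x) * h⁻¹ := by group
          _ = h * (x * (h⁻¹ * g * h)) * h⁻¹ := by rw [hc1.eq]
          _ = _ := by group
      set S := (P : Subgroup G) ⊓ C g with hS
      have hxS : Subgroup.zpowers x ≤ S := Subgroup.zpowers_le.2 ⟨hxP, mem_C.2 (mem_C.1 hgx.1).symm⟩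
      have hxhS : h * x * h⁻¹ ∈ S := ⟨(Subgroup.mem_normalizer_iff.1 hh x).1 hxP, mem_C.2 hc2.symm⟩
      have hS9 : Nat.card S = 9 := by
        have hd := hy.card_three P ▸ Subgroup.card_dvd_of_le (inf_le_left : S ≤ (P : Subgroup G))
        have h3 : 3 < Nat.card S := by
          by_contra hle3
          exact hout ((Subgroup.eq_of_le_of_card_ge hxS (by rw [Nat.card_zpowers, ho]; omega)).symm ▸ hxhS)
        have := Nat.le_of_dvd (by norm_num) hd
        obtain ⟨j, hj, hjo⟩ := (Nat.dvd_prime_pow (p := 3) (by norm_num) (m := 2)).1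
          (show Nat.card S ∣ 3 ^ 2 from hd)
        interval_cases j <;> simp_all
      apply hgP
      refine hy.self_cent P fun p hp => ?_
      have hSP : S = (P : Subgroup G) := Subgroup.eq_of_le_of_card_ge inf_le_left
        (by rw [hy.card_three P, hS9])
      have hpS : p ∈ S := by rw [hSP]; exact hp
      exact (mem_C.1 hpS.2).symm
    set M := Subgroup.normalizer (Subgroup.zpowers x : Set G) with hM
    have hNM : N ≤ M := by
      intro h hh
      rw [hM, Subgroup.mem_normalizer_iff_map_conj_eq, MonoidHom.map_zpowers]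
      refine Subgroup.eq_of_le_of_card_ge (Subgroup.zpowers_le.2 (hline h hh)) ?_
      rw [Nat.card_zpowers, Nat.card_zpowers]
      exact le_of_eq ((MulAut.conj h).orderOf_eq x).symm
    have hCM : C x ≤ M := fun c hc => by
      rw [hM, Subgroup.mem_normalizer_iff_map_conj_eq, MonoidHom.map_zpowers]
      congr 1
      exact mul_inv_eq_iff_eq_mul.2 (mem_C.1 hc).eq
    have hMne : M ≠ ⊤ := fun h => by
      haveI : (Subgroup.zpowers x).Normal := Subgroup.normalizer_eq_top_iff.1 h
      rcases IsSimpleGroup.eq_bot_or_eq_top_of_normal (Subgroup.zpowers x) inferInstance with hb | ht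
      · exact hx1 (Subgroup.zpowers_eq_bot.1 hb)
      · have := congrArg (fun H : Subgroup G => Nat.card H) ht
        simp only [Nat.card_zpowers, Subgroup.card_top, hy.card, ho] at this
        omega
    have hNC : ¬ N ≤ C x := fun h => by
      have : Nx = N := inf_eq_right.2 h
      rw [this, hN36] at h2
      omega
    obtain ⟨hMle, hMd⟩ := hy.card_le M hMne
    obtain ⟨j, hj⟩ := Subgroup.card_dvd_of_le hCM
    rw [h1] at hj
    have hj1 : j ≠ 1 := fun h => hNC ((Subgroup.eq_of_le_of_card_ge hCM (by rw [hj, h, h1])).symm ▸ hNM)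
    have hj4 : j ≤ 4 := by omega
    rw [hj] at hMd
    have : 0 < Nat.card M := Nat.card_pos
    interval_cases j <;> omega
  exact ⟨(key P₁ hP₁).1, fun P hP g hg hgx => (key P hP).2 ▸ ⟨mem_C.2 hgx, hg⟩⟩

end Cfsg.Agent.Lib.Order2520
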